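import Cfsg.Agent.Lib.Transfer.Fusion
import Cfsg.Agent.Lib.Components.Cores
import Cfsg.Agent.Lib.Hall.Solvable
import Cfsg.Agent.Lib.Char.Burnside
import Mathlib.Tactic

/-!
Groups in which `p` divides the order of every subgroup of mixed order at `q`: basic tools.
-/

set_option autoImplicit false

namespace Cfsg.Agent.Lib.Mixed

open Subgroup

variable {G : Type*} [Group G]

/-- `p` divides the order of every subgroup whose order is divisible by `q` and is not a power of `q`. -/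
def MixHyp (p q : ℕ) (G : Type*) [Group G] : Prop :=
  ∀ H : Subgroup G, ¬ IsPGroup q H → q ∣ Nat.card H → p ∣ Nat.card H

theorem MixHyp.subgroup {p q : ℕ} (h : MixHyp p q G) (H : Subgroup G) : MixHyp p q H := by
  intro K hK hq
  have e : Nat.card ↥(K.map H.subtype) = Nat.card ↥K := card_map_of_injective H.subtype_injective
  have := h (K.map H.subtype) (fun hh => hK (hh.of_equiv (K.equivMapOfInjective _ H.subtype_injective).symm)) (e ▸ hq)
  rwa [e] at this

theorem isPGroup_zpowers {p : ℕ} {y : G} {n : ℕ} (h : y ^ p ^ n = 1) : IsPGroup p (zpowers y) := by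
  rintro ⟨_, k, rfl⟩
  refine ⟨n, Subtype.ext ?_⟩
  simp only [SubgroupClass.coe_pow, OneMemClass.coe_one]
  rw [← zpow_natCast, ← zpow_mul, mul_comm, zpow_mul, zpow_natCast, h, one_zpow]

theorem eq_one_of_coprime_pows {y : G} {a b : ℕ} (ha : y ^ a = 1) (hb : y ^ b = 1) (h : Nat.Coprime a b) : y = 1 := by
  have h1 : orderOf y ∣ Nat.gcd a b := Nat.dvd_gcd (orderOf_dvd_of_pow_eq_one ha) (orderOf_dvd_of_pow_eq_one hb)
  rw [h] at h1
  exact orderOf_eq_one_iff.1 (Nat.eq_one_of_dvd_one h1)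

theorem pPow_of_mem {p : ℕ} {K : Subgroup G} (hK : IsPGroup p K) {y : G} (hy : y ∈ K) : ∃ n, y ^ p ^ n = 1 := by
  obtain ⟨n, hn⟩ := hK ⟨y, hy⟩
  exact ⟨n, congrArg Subtype.val hn⟩

variable [Finite G]

theorem dvd_or_of_mem_primes {n : ℕ} {p q : ℕ} (h : ∀ r : ℕ, r.Prime → r ∣ n → r = p ∨ r = q) {r : ℕ} (hr : r.Prime)
    (hrp : r ≠ p) (hrq : r ≠ q) : ¬ r ∣ n := fun hd => (h r hr hd).elim hrp hrq

/-- A `p`-element moving an element of a subgroup it normalizes. -/
theorem move {p : ℕ} [hp : Fact p.Prime] {y t : G} {n : ℕ} (hy : y ^ p ^ n = 1) {U : Subgroup G}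
    (hyU : y ∈ normalizer (U : Set G)) (ht : t ∈ U) (hne : y * t * y⁻¹ ≠ t) :
    p + 1 ≤ Nat.card U ∧ (Nat.card U = p + 1 → ∀ s ∈ U, s ≠ 1 → ∃ i : ℤ, y ^ i * t * (y ^ i)⁻¹ = s) := by
  letI : MulAction (zpowers y) G := MulAction.compHom G ((ConjAct.toConjAct (G := G)).toMonoidHom.comp (zpowers y).subtype)
  have hsmul : ∀ (i : zpowers y) (g : G), i • g = (i : G) * g * (i : G)⁻¹ := fun i g => rfl
  obtain ⟨k, hk⟩ := (isPGroup_zpowers hy).card_orbit (α := G) t
  have hsub : MulAction.orbit (zpowers y) t ⊆ (U : Set G) \ {1} := by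
    rintro _ ⟨i, rfl⟩
    show i • t ∈ _
    rw [hsmul]
    refine ⟨(mem_normalizer_iff.1 (zpowers_le.2 hyU i.2) t).1 ht, fun h => hne ?_⟩
    have ht1 : t = 1 := conj_eq_one_iff.1 h
    rw [ht1, mul_one, mul_inv_cancel]
  have h2 : 1 < (MulAction.orbit (zpowers y) t).ncard := by
    rw [Set.one_lt_ncard_iff (Set.toFinite _)]
    exact ⟨_, t, ⟨⟨y, mem_zpowers y⟩, rfl⟩, MulAction.mem_orbit_self t, hne⟩
  rw [Nat.card_coe_set_eq] at hk
  have hpk : p ≤ (MulAction.orbit (zpowers y) t).ncard := by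
    rw [hk] at h2 ⊢
    exact Nat.le_self_pow (fun h0 => by rw [h0] at h2; simp at h2) p
  have hU : ((U : Set G) \ {1}).ncard + 1 = Nat.card U := by
    rw [show Nat.card U = (U : Set G).ncard from Nat.card_coe_set_eq _]
    exact Set.ncard_sdiff_singleton_add_one U.one_mem (Set.toFinite _)
  have hle := Set.ncard_le_ncard hsub (Set.toFinite _)
  refine ⟨by omega, fun hc s hs hs1 => ?_⟩
  have heq : MulAction.orbit (zpowers y) t = (U : Set G) \ {1} :=
    Set.eq_of_subset_of_ncard_le hsub (by omega) (Set.toFinite _)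
  obtain ⟨⟨_, i, rfl⟩, hi⟩ : s ∈ MulAction.orbit (zpowers y) t := heq ▸ ⟨hs, hs1⟩
  refine ⟨i, ?_⟩
  rw [← hi]
  exact (hsmul ⟨y ^ i, i, rfl⟩ t).symm

/-- A `p`-element centralizes the small subgroups that it normalizes. -/
theorem centralize_small {p : ℕ} [Fact p.Prime] {y : G} {n : ℕ} (hy : y ^ p ^ n = 1) {U : Subgroup G}
    (hyU : y ∈ normalizer (U : Set G)) (hU : Nat.card U ≤ p) : y ∈ centralizer (U : Set G) := by
  rw [mem_centralizer_iff]
  intro t ht
  by_contra h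
  have := (move hy hyU ht (fun e => h (by rw [← mul_inv_eq_iff_eq_mul.1 e]))).1
  omega

/-- A subgroup of order `p + 1` with a moving `p`-element has all non-identity elements of one order and is abelian. -/
theorem elementary_of_move {p : ℕ} [Fact p.Prime] {y t : G} {n : ℕ} (hy : y ^ p ^ n = 1) {U : Subgroup G}
    (hyU : y ∈ normalizer (U : Set G)) (ht : t ∈ U) (hne : y * t * y⁻¹ ≠ t) (hc : Nat.card U = p + 1)
    (hU2 : IsPGroup 2 U) : IsMulCommutative U ∧ ∀ s ∈ U, s * s = 1 := by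
  haveI := Fact.mk Nat.prime_two
  haveI : Nontrivial U := ⟨1, ⟨t, ht⟩, fun h => hne (by
    have : t = 1 := (congrArg Subtype.val h).symm
    rw [this, mul_one, mul_inv_cancel])⟩
  have hrel := (move hy hyU ht hne).2 hc
  have hall : ∀ (P : G → Prop), (∀ g : G, g ∈ normalizer (U : Set G) → ∀ s, P s → P (g * s * g⁻¹)) →
      ∀ z ∈ U, z ≠ 1 → P z → ∀ s ∈ U, s ≠ 1 → P s := by
    intro P hP z hz hz1 hPz s hs hs1
    obtain ⟨i, hi⟩ := hrel z hz hz1
    obtain ⟨j, hj⟩ := hrel s hs hs1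
    have := hP (y ^ j * (y ^ i)⁻¹) (mul_mem (zpow_mem hyU j) (inv_mem (zpow_mem hyU i))) z hPz
    rwa [show y ^ j * (y ^ i)⁻¹ * z * (y ^ j * (y ^ i)⁻¹)⁻¹ = s by rw [← hj, ← hi]; group] at this
  obtain ⟨z, hz, hz1⟩ : ∃ z : U, z ∈ center U ∧ z ≠ 1 :=
    (bot_or_exists_ne_one _).resolve_left ((nontrivial_iff_ne_bot _).1 hU2.center_nontrivial)
  have hcom : ∀ s ∈ U, s ≠ 1 → ∀ u ∈ U, s * u = u * s := by
    refine hall (fun s => ∀ u ∈ U, s * u = u * s) (fun g hg s hs u hu => ?_) z z.2 (fun h => hz1 (Subtype.ext h))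
      (fun u hu => (congrArg Subtype.val (mem_center_iff.1 hz ⟨u, hu⟩)).symm)
    have hu' : g⁻¹ * u * g ∈ U := (mem_normalizer_iff.1 hg _).2 (by simpa [mul_assoc] using hu)
    calc g * s * g⁻¹ * u = g * (s * (g⁻¹ * u * g)) * g⁻¹ := by group
      _ = g * ((g⁻¹ * u * g) * s) * g⁻¹ := by rw [hs _ hu']
      _ = u * (g * s * g⁻¹) := by group
  refine ⟨⟨⟨fun a b => ?_⟩⟩, fun s hs => ?_⟩
  · by_cases ha : (a : G) = 1
    · exact Subtype.ext (by simp [ha])
    · exact Subtype.ext (hcom a a.2 ha b b.2)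
  · by_cases hs1 : s = 1
    · rw [hs1, one_mul]
    obtain ⟨u, hu⟩ := exists_prime_orderOf_dvd_card' (G := U) 2 (by
      obtain ⟨m, hm⟩ := IsPGroup.iff_card.1 hU2
      rw [hm]
      refine dvd_pow_self 2 fun h0 => ?_
      rw [h0, pow_zero, Nat.card_eq_one_iff_unique] at hm
      exact not_subsingleton U hm.1)
    have hu2 : (u : G) * u = 1 := by
      rw [← pow_two, ← hu, ← orderOf_coe, pow_orderOf_eq_one]
    refine hall (fun s => s * s = 1) (fun g _ s hs => ?_) u u.2 (fun h => ?_) hu2 s hs hs1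
    · rw [show g * s * g⁻¹ * (g * s * g⁻¹) = g * (s * s) * g⁻¹ by group, hs, mul_one, mul_inv_cancel]
    · rw [show u = 1 from Subtype.ext h, orderOf_one] at hu
      omega

/-- The two possible shapes of a group of order `2^i p^j`. -/
theorem two_cases {H : Type*} [Group H] [Finite H] {p : ℕ} [hp : Fact p.Prime] (hp2 : p ≠ 2)
    (hpr : ∀ r : ℕ, r.Prime → r ∣ Nat.card H → r = 2 ∨ r = p)
    (hab : ∀ P : Sylow p H, IsMulCommutative (P : Subgroup H)) (N : ℕ)
    (hN : ∀ U : Subgroup H, IsPGroup 2 U → Nat.card U < N → ∀ y ∈ normalizer (U : Set H),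
      (∃ n, y ^ p ^ n = 1) → y ∈ centralizer (U : Set H)) :
    (∃ Q : Subgroup H, Q.Normal ∧ IsPGroup 2 Q ∧ N ≤ Nat.card Q) ∨
    (∃ K : Subgroup H, K.Normal ∧ IsPGroup p K ∧ IsMulCommutative K ∧ ∀ y : H, (∃ n, y ^ p ^ n = 1) → y ∈ K) := by
  haveI := Fact.mk Nat.prime_two
  haveI hsol : Group.IsSolvable H := Char.isSolvable_of_card_eq_two_primes Nat.prime_two hp.out _ H rfl hpr
  set E := Cfsg.pCore 2 H
  set K := Cfsg.pCore p H
  have hE : IsPGroup 2 E := Components.pCore_isPGroup 2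
  have hK : IsPGroup p K := Components.pCore_isPGroup p
  haveI hEn : E.Normal := inferInstance
  haveI hKn : K.Normal := inferInstance
  rcases Nat.lt_or_ge (Nat.card E) N with hlt | hge
  swap
  · exact Or.inl ⟨E, hEn, hE, hge⟩
  have hKab : IsMulCommutative K := by
    obtain ⟨P, hP⟩ := hK.exists_le_sylow
    haveI := hab P
    exact ⟨⟨fun a b => Subtype.ext (show (a : H) * b = b * a from congrArg Subtype.val
      ((IsMulCommutative.is_comm (M := (P : Subgroup H))).comm ⟨(a : H), hP a.2⟩ ⟨(b : H), hP b.2⟩))⟩⟩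
  refine Or.inr ⟨K, hKn, hK, hKab, fun y ⟨n, hn⟩ => ?_⟩
  have hyE : y ∈ centralizer (E : Set H) := hN E hE hlt y (by rw [normalizer_eq_top (H := E)]; trivial) ⟨n, hn⟩
  have hyK : y ∈ centralizer (K : Set H) := by
    obtain ⟨P, hP⟩ := (IsPGroup.to_sup_of_normal_right' (isPGroup_zpowers hn) hK (by rw [normalizer_eq_top (H := K)]; exact le_top)).exists_le_sylow
    haveI := hab P
    rw [mem_centralizer_iff]
    intro k hk
    exact congrArg Subtype.val ((IsMulCommutative.is_comm (M := (P : Subgroup H))).comm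
      ⟨k, hP (mem_sup_right hk)⟩ ⟨y, hP (mem_sup_left (mem_zpowers y))⟩)
  have hle : Cfsg.fittingSubgroup H ≤ E ⊔ K := by
    refine (Components.fittingSubgroup_le_sup 2).trans (sup_le le_sup_left (le_sup_of_le_right ?_))
    refine Components.le_pCore (IsPGroup.of_card (n := (Nat.card ↥(Cfsg.pPrimeCore 2 H)).primeFactorsList.length) ?_)
    refine Nat.eq_prime_pow_of_unique_prime_dvd Nat.card_pos.ne' fun {r} hr hd => ?_
    refine (hpr r hr (hd.trans (card_subgroup_dvd_card _))).resolve_left fun h2 => ?_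
    subst h2
    exact Components.pPrimeCore_not_dvd 2 hd
  have hyF : y ∈ E ⊔ K := by
    refine hle (Hall.centralizer_fittingSubgroup_le ?_)
    have : E ⊔ K ≤ centralizer {y} := sup_le
      (fun e he => mem_centralizer_singleton_iff.2 (mem_centralizer_iff.1 hyE e he))
      (fun e he => mem_centralizer_singleton_iff.2 (mem_centralizer_iff.1 hyK e he))
    rw [mem_centralizer_iff]
    exact fun f hf => mem_centralizer_singleton_iff.1 (this (hle hf))
  obtain ⟨e, he, k, hk, rfl⟩ := mem_sup_of_normal_left.1 hyF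
  obtain ⟨i, hi⟩ := pPow_of_mem hE he
  obtain ⟨j, hj⟩ := pPow_of_mem hK hk
  have hck : Commute (e * k) k := (mem_centralizer_iff.1 hyK k hk).symm
  have hep : e ^ p ^ (n + j) = 1 := by
    rw [show e = e * k * k⁻¹ by rw [mul_inv_cancel_right], hck.inv_right.mul_pow, inv_pow, pow_add,
      pow_mul, hn, one_pow, mul_comm, pow_mul, hj, one_pow, inv_one, one_mul]
  have : e = 1 := eq_one_of_coprime_pows hi hep (((Nat.coprime_primes Nat.prime_two hp.out).2 (Ne.symm hp2)).pow _ _)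
  rw [this, one_mul]
  exact hk

end Cfsg.Agent.Lib.Mixed
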