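import Cfsg.Agent.Lib.Mixed.Structure
import Mathlib.LinearAlgebra.Matrix.Charpoly.FiniteField

/-!
The critical configuration does not exist.
-/

set_option autoImplicit false

namespace Cfsg.Agent.Lib.Mixed

open Subgroup

variable {G : Type*} [Group G] [Finite G] {p : ℕ} [hp : Fact p.Prime] (c : Ctx p G)
include c

theorem Ctx.coprime_two {n m : ℕ} : Nat.Coprime (p ^ n) (2 ^ m) :=
  ((Nat.coprime_primes hp.out Nat.prime_two).2 c.p2).pow _ _

theorem Ctx.pelt_invol {y : G} {n : ℕ} (hy : y ^ p ^ n = 1) (h : y * y = 1) : y = 1 :=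
  eq_one_of_coprime_pows hy (b := 2 ^ 1) (by rw [pow_one, pow_two, h]) c.coprime_two

omit [Finite G] hp c in
theorem pPow_conj {y : G} {n : ℕ} (g : G) (hy : y ^ p ^ n = 1) : (g * y * g⁻¹) ^ p ^ n = 1 := by
  rw [conj_pow, hy, mul_one, mul_inv_cancel]

omit [Finite G] hp c in
theorem conj_mem_smul {ℓ : ℕ} {P : Sylow ℓ G} {a : G} (g : G) (ha : a ∈ (P : Subgroup G)) :
    g * a * g⁻¹ ∈ ((g • P : Sylow ℓ G) : Subgroup G) :=
  Transfer.mem_smul_sylow.2 (by simpa [mul_assoc] using ha)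

omit [Finite G] hp c in
theorem invol_conj {t : G} (g : G) (ht : t * t = 1) (ht1 : t ≠ 1) :
    g * t * g⁻¹ * (g * t * g⁻¹) = 1 ∧ g * t * g⁻¹ ≠ 1 :=
  ⟨by rw [show g * t * g⁻¹ * (g * t * g⁻¹) = g * (t * t) * g⁻¹ by group, ht, mul_one, mul_inv_cancel],
    fun h => ht1 (conj_eq_one_iff.1 h)⟩

omit [Finite G] hp c in
theorem commute_iff_conj {w a : G} (hw : w * w = 1) : w * a * w = a ↔ Commute w a := by
  constructor
  · intro h
    show w * a = a * w
    conv_rhs => rw [← h, mul_assoc, hw, mul_one]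
  · intro h
    rw [h.eq, mul_assoc, hw, mul_one]

omit [Finite G] hp c in
theorem mem_centralizer_of_commute {z g : G} (h : Commute g z) : g ∈ centralizer ({z} : Set G) :=
  mem_centralizer_singleton_iff.2 h.eq

theorem Ctx.exists_common_sylow {t u : G} (ht : t * t = 1) (hu : u * u = 1) (h : Commute t u) :
    ∃ Q : Sylow 2 G, t ∈ (Q : Subgroup G) ∧ u ∈ (Q : Subgroup G) := by
  have h1 : IsPGroup 2 (zpowers t) := isPGroup_zpowers (n := 1) (by rw [pow_one, pow_two, ht])
  have h2 : IsPGroup 2 (zpowers u) := isPGroup_zpowers (n := 1) (by rw [pow_one, pow_two, hu])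
  have hn : zpowers t ≤ normalizer (zpowers u : Set G) := by
    refine zpowers_le.2 (centralizer_le_normalizer _ (mem_centralizer_iff.2 ?_))
    rintro _ ⟨i, rfl⟩
    exact (h.zpow_right i).symm.eq
  obtain ⟨Q, hQ⟩ := (IsPGroup.to_sup_of_normal_right' h1 h2 hn).exists_le_sylow
  exact ⟨Q, hQ (mem_sup_left (mem_zpowers t)), hQ (mem_sup_right (mem_zpowers u))⟩

theorem Ctx.conj_invol {t u : G} (ht : t * t = 1) (ht1 : t ≠ 1) (hu : u * u = 1) (hu1 : u ≠ 1) :
    ∃ g : G, g * t * g⁻¹ = u := by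
  haveI := Fact.mk Nat.prime_two
  obtain ⟨Q, hQt, -⟩ := c.exists_common_sylow ht ht (Commute.refl t)
  obtain ⟨Q', hQu, -⟩ := c.exists_common_sylow hu hu (Commute.refl u)
  obtain ⟨g, hg⟩ := MulAction.exists_smul_eq G Q Q'
  have h1 : g * t * g⁻¹ ∈ (Q' : Subgroup G) := hg ▸ conj_mem_smul g hQt
  obtain ⟨x, -, hx, htr⟩ := c.transitive Q'
  obtain ⟨i, hi⟩ := htr _ h1 (invol_conj g ht ht1).2 u hQu hu1
  exact ⟨x ^ i * g, by rw [← hi]; group⟩

theorem Ctx.exists_invol : ∃ t : G, t * t = 1 ∧ t ≠ 1 := by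
  haveI := Fact.mk Nat.prime_two
  obtain ⟨t, ht⟩ := exists_prime_orderOf_dvd_card' (G := G) 2 c.two_dvd
  exact ⟨t, by rw [← pow_two, ← ht, pow_orderOf_eq_one], fun h => by rw [h, orderOf_one] at ht; omega⟩

theorem Ctx.exists_noncommuting :
    ∃ t u : G, t * t = 1 ∧ t ≠ 1 ∧ u * u = 1 ∧ u ≠ 1 ∧ ¬ Commute t u := by
  by_contra! h
  obtain ⟨t, ht, ht1⟩ := c.exists_invol
  set S : Set G := {u | u * u = 1 ∧ u ≠ 1}
  have hle : normalClosure S ≤ centralizer ({t} : Set G) := by
    refine (closure_le _).2 fun v hv => ?_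
    obtain ⟨u, hu, hc⟩ := Group.mem_conjugatesOfSet_iff.1 hv
    obtain ⟨g, rfl⟩ := isConj_iff.1 hc
    have := invol_conj g hu.1 hu.2
    exact mem_centralizer_of_commute (h t _ ht ht1 this.1 this.2).symm
  rcases c.simple (normalClosure S) with h1 | h1
  · exact ht1 (mem_bot.1 (h1 ▸ subset_normalClosure (show t ∈ S from ⟨ht, ht1⟩)))
  · exact c.centralizer_ne_top ht1 (eq_top_iff.2 (h1 ▸ hle))

theorem Ctx.inverted_pair {t u : G} (ht : t * t = 1) (ht1 : t ≠ 1) (hu : u * u = 1) (hu1 : u ≠ 1)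
    (hne : ¬ Commute t u) : ∃ z : G, z ≠ 1 ∧ z ^ p = 1 ∧ t * z * t = z⁻¹ ∧ u * z * u = z⁻¹ ∧ z ∈ zpowers (t * u) := by
  haveI := Fact.mk Nat.prime_two
  have hti := inv_eq_of_mul_eq_one_right ht
  have hui := inv_eq_of_mul_eq_one_right hu
  have h1 : t * (t * u) * t⁻¹ = (t * u)⁻¹ := by rw [mul_inv_rev, hui, hti, ← mul_assoc t t, ht, one_mul]
  have h2 : u * (t * u) * u⁻¹ = (t * u)⁻¹ := by rw [mul_inv_rev, hui, hti, mul_assoc, mul_assoc t u u, hu, mul_one]
  -- an odd prime divides the order of `t u`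
  obtain ⟨s, hs, hs2, hsd⟩ : ∃ s : ℕ, s.Prime ∧ s ≠ 2 ∧ s ∣ orderOf (t * u) := by
    by_contra! h
    have hpow := Nat.eq_prime_pow_of_unique_prime_dvd (p := 2) (orderOf_pos (t * u)).ne' (fun {d} hd hdd =>
      by_contra fun hne => h d hd hne hdd)
    have hA : IsPGroup 2 (zpowers (t * u)) := IsPGroup.of_card (by rw [Nat.card_zpowers]; exact hpow)
    have hn : zpowers t ≤ normalizer (zpowers (t * u) : Set G) := zpowers_le.2 (by
      rw [mem_normalizer_iff]
      intro a
      constructor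
      · rintro ⟨i, rfl⟩
        exact ⟨-i, by simp only; rw [zpow_neg, ← inv_zpow, ← h1, conj_zpow]⟩
      · rintro ⟨i, hi⟩
        refine ⟨-i, ?_⟩
        simp only at hi ⊢
        rw [zpow_neg, ← inv_zpow, ← h1, conj_zpow, hi, hti]
        simp only [mul_assoc, ht, mul_one]
        rw [← mul_assoc, ht, one_mul])
    have h2g := IsPGroup.to_sup_of_normal_right' (isPGroup_zpowers (y := t) (p := 2) (n := 1) (by rw [pow_one, pow_two, ht])) hA hn
    refine hne ?_
    have hcm : Commute t (t * u) := (c.two_group h2g).1 _ (mem_sup_left (mem_zpowers t)) _ (mem_sup_right (mem_zpowers _))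
    exact mul_left_cancel (hcm.eq.trans (mul_assoc t u t))
  obtain ⟨k, hk⟩ := hsd
  have hzord : orderOf ((t * u) ^ k) = s := by
    have hk0 : k ≠ 0 := fun h => by rw [h, mul_zero] at hk; exact (orderOf_pos (t * u)).ne' hk
    rw [orderOf_pow_of_dvd hk0 ⟨s, by rw [hk, mul_comm]⟩, hk, Nat.mul_div_cancel _ (Nat.pos_of_ne_zero hk0)]
  set z := (t * u) ^ k with hz
  have hz1 : z ≠ 1 := fun h => by rw [h, orderOf_one] at hzord; exact hs.one_lt.ne hzord
  have i1 : t * z * t = z⁻¹ := by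
    have := conj_pow (a := t) (b := t * u) (i := k)
    rw [h1, hti] at this
    rw [hz, ← inv_pow, this]
  have i2 : u * z * u = z⁻¹ := by
    have := conj_pow (a := u) (b := t * u) (i := k)
    rw [h2, hui] at this
    rw [hz, ← inv_pow, this]
  refine ⟨z, hz1, ?_, i1, i2, ⟨k, by simp [hz]⟩⟩
  by_cases hsp : s = p
  · rw [← hsp, ← hzord, pow_orderOf_eq_one]
  exfalso
  haveI := Fact.mk hs
  refine c.no_odd hs hs2 hsp (isPGroup_zpowers (y := z) (n := 1) (by rw [pow_one, ← hzord, pow_orderOf_eq_one]))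
    (fun h => hz1 (zpowers_eq_bot.1 h)) ht ht1 ?_
  rw [mem_normalizer_iff]
  intro a
  constructor
  · rintro ⟨i, rfl⟩
    exact ⟨-i, by simp only; rw [zpow_neg, ← inv_zpow, ← i1, ← conj_zpow, hti]⟩
  · rintro ⟨i, hi⟩
    refine ⟨-i, ?_⟩
    simp only at hi ⊢
    have h3 : (t * z * t⁻¹) ^ i = t * z ^ i * t⁻¹ := conj_zpow
    rw [hti, i1, hi, inv_zpow', hti] at h3
    rw [h3]
    simp only [mul_assoc, ht, mul_one]
    rw [← mul_assoc, ht, one_mul]

omit [Finite G] hp c in
theorem invol_normalizes {w z : G} (hw : w * w = 1) (h : w * z * w = z⁻¹ ∨ w * z * w = z) :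
    w ∈ normalizer (zpowers z : Set G) := by
  have hwi := inv_eq_of_mul_eq_one_right hw
  have key : ∀ a ∈ zpowers z, w * a * w⁻¹ ∈ zpowers z := by
    rintro a ⟨i, rfl⟩
    show w * z ^ i * w⁻¹ ∈ zpowers z
    rw [← conj_zpow, hwi]
    rcases h with h | h <;> rw [h]
    · exact zpow_mem (inv_mem (mem_zpowers z)) i
    · exact zpow_mem (mem_zpowers z) i
  rw [mem_normalizer_iff]
  refine fun a => ⟨key a, fun ha => ?_⟩
  have := key _ ha
  rwa [hwi, show w * (w * a * w) * w = (w * w) * a * (w * w) by simp only [mul_assoc], hw, one_mul, mul_one] at this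

theorem Ctx.Pd_aux {d w : G} {n : ℕ} (hd : d ^ p ^ n = 1) (hd1 : d ≠ 1) (hw : w * w = 1) (hw1 : w ≠ 1)
    (hwd : w ∈ normalizer (zpowers d : Set G))
    (hne : ∀ Q : Sylow 2 G, d ∈ normalizer ((Q : Subgroup G) : Set G) → w ∈ (Q : Subgroup G) → d * w * d⁻¹ ≠ w) :
    ∃ P : Sylow p G, d ∈ (P : Subgroup G) ∧ normalizer (zpowers d : Set G) ≤ normalizer ((P : Subgroup G) : Set G) ∧
      ∀ P' : Sylow p G, d ∈ (P' : Subgroup G) → P' = P := by
  haveI := Fact.mk Nat.prime_two
  set H := normalizer (zpowers d : Set G) with hH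
  have hdH : d ∈ H := le_normalizer (mem_zpowers d)
  have h2 : 2 ∣ Nat.card H := by
    rw [← orderOf_eq_prime (show w ^ 2 = 1 by rw [pow_two, hw]) hw1]
    exact orderOf_dvd_natCard H hwd
  rcases c.local_cases (c.normalizer_ne_top (fun h => hd1 (zpowers_eq_bot.1 h)) (isPGroup_zpowers hd)) h2 with
    ⟨Q, -, hHQ⟩ | ⟨K, -, hHK, hK, -, hKy⟩
  · exfalso
    have hwQ : w ∈ (Q : Subgroup G) := mem_sylow_of_normalize Q (n := 1) (by rw [pow_one, pow_two, hw]) (hHQ hwd)
    refine hne Q (hHQ hdH) hwQ ?_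
    have e1 : d * w * d⁻¹ * w⁻¹ ∈ zpowers d := by
      have := mul_mem (mem_zpowers d) ((mem_normalizer_iff.1 hwd _).1 (inv_mem (mem_zpowers d)))
      rwa [show d * (w * d⁻¹ * w⁻¹) = d * w * d⁻¹ * w⁻¹ by group] at this
    have e2 : d * w * d⁻¹ * w⁻¹ ∈ (Q : Subgroup G) :=
      mul_mem ((mem_normalizer_iff.1 (hHQ hdH) w).1 hwQ) (inv_mem hwQ)
    obtain ⟨i, hi⟩ := pPow_of_mem (isPGroup_zpowers hd) e1
    obtain ⟨j, hj⟩ := pPow_of_mem Q.2 e2
    exact mul_inv_eq_one.1 (eq_one_of_coprime_pows hi hj c.coprime_two)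
  · have hPH : ∀ P : Sylow p G, d ∈ (P : Subgroup G) → (P : Subgroup G) ≤ K := fun P hdP a ha => by
      haveI := c.ab P
      refine hKy a (centralizer_le_normalizer _ (mem_centralizer_iff.2 ?_)) (pPow_of_mem P.2 ha)
      rintro _ ⟨i, rfl⟩
      exact congrArg Subtype.val ((IsMulCommutative.is_comm (M := (P : Subgroup G))).comm ⟨_, zpow_mem hdP i⟩ ⟨a, ha⟩)
    obtain ⟨P, hP⟩ := exists_sylow_mem hd
    have hKP : K = (P : Subgroup G) := P.3 hK (hPH P hP)
    refine ⟨P, hP, hKP ▸ hHK, fun P' hP' => Sylow.ext ?_⟩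
    rw [← hKP]
    exact (P'.3 hK (hPH P' hP')).symm

theorem Ctx.Pz {z w : G} (hz : z ^ p = 1) (hz1 : z ≠ 1) (hw : w * w = 1) (hw1 : w ≠ 1) (hi : w * z * w = z⁻¹) :
    ∃ P : Sylow p G, z ∈ (P : Subgroup G) ∧ normalizer (zpowers z : Set G) ≤ normalizer ((P : Subgroup G) : Set G) ∧
      ∀ P' : Sylow p G, z ∈ (P' : Subgroup G) → P' = P := by
  refine c.Pd_aux (n := 1) (by rw [pow_one]; exact hz) hz1 hw hw1 (invol_normalizes hw (Or.inl hi)) fun Q _ _ h => hz1 ?_
  refine c.pelt_invol (n := 1) (by rw [pow_one]; exact hz) ?_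
  have hcm : Commute w z := (show Commute z w from mul_inv_eq_iff_eq_mul.1 h).symm
  rw [(commute_iff_conj hw).2 hcm] at hi
  nth_rewrite 1 [hi]
  exact inv_mul_cancel z

theorem Ctx.even_normalizer (P : Sylow p G) :
    ∃ w : G, w * w = 1 ∧ w ≠ 1 ∧ w ∈ normalizer ((P : Subgroup G) : Set G) := by
  obtain ⟨t, u, ht, ht1, hu, hu1, hne⟩ := c.exists_noncommuting
  obtain ⟨z, hz1, hz, hzt, -, -⟩ := c.inverted_pair ht ht1 hu hu1 hne
  obtain ⟨P₀, -, hP₀, -⟩ := c.Pz hz hz1 ht ht1 hzt
  obtain ⟨g, hg⟩ := MulAction.exists_smul_eq G P₀ P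
  refine ⟨g * t * g⁻¹, (invol_conj g ht ht1).1, (invol_conj g ht ht1).2, ?_⟩
  refine Sylow.smul_eq_iff_mem_normalizer.1 ?_
  rw [← hg, ← mul_smul]
  rw [show g * t * g⁻¹ * g = g * t by group, mul_smul,
    Sylow.smul_eq_iff_mem_normalizer.2 (hP₀ (invol_normalizes ht (Or.inl hzt)))]

theorem Ctx.P_ne_bot (P : Sylow p G) : (P : Subgroup G) ≠ ⊥ := P.ne_bot_of_dvd_card c.p_dvd

theorem Ctx.two_dvd_normalizer (P : Sylow p G) : 2 ∣ Nat.card (normalizer ((P : Subgroup G) : Set G)) := by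
  haveI := Fact.mk Nat.prime_two
  obtain ⟨w, hw, hw1, hwP⟩ := c.even_normalizer P
  rw [← orderOf_eq_prime (show w ^ 2 = 1 by rw [pow_two, hw]) hw1]
  exact orderOf_dvd_natCard _ hwP

theorem Ctx.fixed_by_invol (P : Sylow p G) {z : G} (hz : z ∈ (P : Subgroup G))
    (h : ∀ w : G, w * w = 1 → w ∈ normalizer ((P : Subgroup G) : Set G) → w * z * w = z) : z = 1 := by
  haveI := Fact.mk Nat.prime_two
  refine c.fixed_eq_one P hz ?_
  set NP := normalizer ((P : Subgroup G) : Set G) with hNP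
  set Z := (centralizer ({z} : Set G)).subgroupOf NP
  suffices hZ : Z = ⊤ by
    intro g hg
    exact mem_centralizer_singleton_iff.1 (mem_subgroupOf.1 (hZ ▸ mem_top (⟨g, hg⟩ : NP)))
  refine eq_top_of_card_eq _ (Nat.dvd_antisymm (card_subgroup_dvd_card _) ?_)
  refine (Nat.dvd_iff_prime_pow_dvd_dvd _ _).2 fun r e hr hd => ?_
  rcases Nat.eq_zero_or_pos e with rfl | he
  · simp
  rcases c.sub NP (c.normalizer_ne_top (c.P_ne_bot P) P.2) (c.two_dvd_normalizer P) r hr
      ((dvd_pow_self r he.ne').trans hd) with rfl | rfl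
  · obtain ⟨W⟩ : Nonempty (Sylow 2 NP) := inferInstance
    refine (W.pow_dvd_card_of_pow_dvd_card hd).trans (card_dvd_of_le fun a ha => mem_subgroupOf.2 ?_)
    obtain ⟨m, hm⟩ := pPow_of_mem W.2 ha
    have ha2 : (a : G) * a = 1 := c.sq (n := m) (by simpa using congrArg Subtype.val hm)
    exact mem_centralizer_of_commute ((commute_iff_conj ha2).1 (h a ha2 a.2))
  · obtain ⟨T⟩ : Nonempty (Sylow r NP) := inferInstance
    refine (T.pow_dvd_card_of_pow_dvd_card hd).trans (card_dvd_of_le fun a ha => mem_subgroupOf.2 ?_)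
    obtain ⟨m, hm⟩ := pPow_of_mem T.2 ha
    have haP := mem_sylow_of_normalize P (n := m) (by simpa using congrArg Subtype.val hm) a.2
    haveI := c.ab P
    exact mem_centralizer_of_commute (congrArg Subtype.val ((IsMulCommutative.is_comm (M := (P : Subgroup G))).comm ⟨(a : G), haP⟩ ⟨z, hz⟩))

theorem Ctx.cent_sylow' (Q : Sylow 2 G) {y : G} {n : ℕ} (hy : y ^ p ^ n = 1)
    (hyQ : y ∈ centralizer ((Q : Subgroup G) : Set G)) : y = 1 :=
  c.cent_sylow Q hy hyQ c.even_normalizer fun P _ hz h => c.fixed_by_invol P hz h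

/-- The Sylow subgroup attached to a `p`-element with an involution in its centralizer. -/
theorem Ctx.Pd {d w : G} {n : ℕ} (hd : d ^ p ^ n = 1) (hd1 : d ≠ 1) (hw : w * w = 1) (hw1 : w ≠ 1)
    (hc : Commute d w) :
    ∃ P : Sylow p G, d ∈ (P : Subgroup G) ∧ normalizer (zpowers d : Set G) ≤ normalizer ((P : Subgroup G) : Set G) ∧
      ∀ P' : Sylow p G, d ∈ (P' : Subgroup G) → P' = P :=
  c.Pd_aux hd hd1 hw hw1 (invol_normalizes hw (Or.inr ((commute_iff_conj hw).2 hc.symm))) fun Q hdQ hwQ h =>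
    hd1 (c.cent_sylow' Q hd (c.no_move_fixed hd Q hdQ hwQ hw1 h))

/-- The `p`-elements of the centralizer of an involution commute. -/
theorem Ctx.cent_invol_comm {t y y' : G} {n n' : ℕ} (ht : t * t = 1) (ht1 : t ≠ 1) (hy : y ^ p ^ n = 1)
    (hy' : y' ^ p ^ n' = 1) (hc : Commute y t) (hc' : Commute y' t) : Commute y y' := by
  haveI := Fact.mk Nat.prime_two
  have htH : t ∈ centralizer ({t} : Set G) := mem_centralizer_of_commute (Commute.refl t)
  have h2 : 2 ∣ Nat.card (centralizer ({t} : Set G)) := by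
    rw [← orderOf_eq_prime (show t ^ 2 = 1 by rw [pow_two, ht]) ht1]
    exact orderOf_dvd_natCard _ htH
  rcases c.local_cases (c.centralizer_ne_top ht1) h2 with ⟨Q, -, hHQ⟩ | ⟨K, -, -, -, hKc, hKy⟩
  · have htQ : t ∈ (Q : Subgroup G) := mem_sylow_of_normalize Q (n := 1) (by rw [pow_one, pow_two, ht]) (hHQ htH)
    rw [c.cent_sylow' Q hy (c.no_move_fixed hy Q (hHQ (mem_centralizer_of_commute hc)) htQ ht1 (by rw [hc.eq, mul_inv_cancel_right]))]
    exact Commute.one_left _
  · exact hKc _ (hKy y (mem_centralizer_of_commute hc) ⟨n, hy⟩) _ (hKy y' (mem_centralizer_of_commute hc') ⟨n', hy'⟩)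

omit [Finite G] hp c in
theorem mem_normalizer_of_commute {d g : G} (h : Commute g d) : g ∈ normalizer (zpowers d : Set G) := by
  refine centralizer_le_normalizer _ (mem_centralizer_iff.2 ?_)
  rintro _ ⟨i, rfl⟩
  exact (h.zpow_right i).symm.eq

section PartB

/-- In the presence of a `p`-element commuting with `t`, its Sylow subgroup is centralized by `t`. -/
theorem Ctx.caseB {y t : G} {n : ℕ} (hy : y ^ p ^ n = 1) (hy1 : y ≠ 1) (ht : t * t = 1) (ht1 : t ≠ 1)
    (hc : Commute y t) :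
    ∃ P : Sylow p G, y ∈ (P : Subgroup G) ∧ (∀ a ∈ (P : Subgroup G), Commute a t) ∧
      ∀ Q : Sylow 2 G, t ∈ (Q : Subgroup G) →
        (∀ v ∈ (Q : Subgroup G), (∀ a ∈ (P : Subgroup G), Commute a v) → v = 1 ∨ v = t) ∧
        (∀ v ∈ (Q : Subgroup G), v ≠ 1 → v ≠ t → ∀ a ∈ (P : Subgroup G), v * a * v = a⁻¹) ∧
        Nat.card (Q : Subgroup G) = 4 := by
  haveI := Fact.mk Nat.prime_two
  obtain ⟨P, hyP, hyN, -⟩ := c.Pd hy hy1 ht ht1 hc
  haveI := c.ab P
  have hPab : ∀ a ∈ (P : Subgroup G), ∀ b ∈ (P : Subgroup G), a * b = b * a := fun a ha b hb =>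
    congrArg Subtype.val ((IsMulCommutative.is_comm (M := (P : Subgroup G))).comm ⟨a, ha⟩ ⟨b, hb⟩)
  -- `p`-elements commuting with an involution that fixes a non-identity element of `P`
  have hmemP : ∀ {s e e' : G} {m : ℕ}, s * s = 1 → s ≠ 1 → e ∈ (P : Subgroup G) → e ≠ 1 → Commute e s →
      e' ^ p ^ m = 1 → Commute e' s → e' ∈ (P : Subgroup G) := by
    intro s e e' m hs hs1 he he1 hce he' hce'
    obtain ⟨k, hk⟩ := pPow_of_mem P.2 he
    obtain ⟨P₁, -, hP₁, huniq⟩ := c.Pd hk he1 hs hs1 hce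
    rw [← huniq P he] at hP₁
    exact mem_sylow_of_normalize P he' (hP₁ (mem_normalizer_of_commute (c.cent_invol_comm hs hs1 he' hk hce' hce)))
  have hconjN : ∀ {s e g : G}, s * s = 1 → s ≠ 1 → e ∈ (P : Subgroup G) → e ≠ 1 → Commute e s →
      g * e * g⁻¹ ∈ (P : Subgroup G) → Commute (g * e * g⁻¹) (g * s * g⁻¹) →
      g ∈ normalizer ((P : Subgroup G) : Set G) := by
    intro s e g hs hs1 he he1 hce hgP hgc
    obtain ⟨k, hk⟩ := pPow_of_mem P.2 he
    obtain ⟨P₁, -, -, huniq⟩ := c.Pd (pPow_conj g hk) (fun h => he1 (conj_eq_one_iff.1 h))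
      (invol_conj g hs hs1).1 (invol_conj g hs hs1).2 hgc
    have h1 : g • P = P₁ := huniq _ (conj_mem_smul g he)
    have h2 : P = P₁ := huniq _ hgP
    exact Sylow.smul_eq_iff_mem_normalizer.1 (h1.trans h2.symm)
  refine ⟨P, hyP, ?_⟩
  suffices hmain : ∀ Q : Sylow 2 G, t ∈ (Q : Subgroup G) →
      (∀ a ∈ (P : Subgroup G), Commute a t) ∧
      (∀ v ∈ (Q : Subgroup G), (∀ a ∈ (P : Subgroup G), Commute a v) → v = 1 ∨ v = t) ∧
      (∀ v ∈ (Q : Subgroup G), v ≠ 1 → v ≠ t → ∀ a ∈ (P : Subgroup G), v * a * v = a⁻¹) ∧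
      Nat.card (Q : Subgroup G) = 4 by
    obtain ⟨Q₀, hQ₀, -⟩ := c.exists_common_sylow ht ht (Commute.refl t)
    exact ⟨(hmain Q₀ hQ₀).1, fun Q hQ => (hmain Q hQ).2⟩
  intro Q htQ
  have hQ2 := c.two_group Q.2
  have hQN : (Q : Subgroup G) ≤ normalizer ((P : Subgroup G) : Set G) := by
    intro q hq
    have hqt : q * t * q⁻¹ = t := by rw [hQ2.1 q hq t htQ, mul_inv_cancel_right]
    have hcq : Commute (q * y * q⁻¹) t := by
      have := hc.map (MulAut.conj q).toMonoidHom
      simp only [MulEquiv.coe_toMonoidHom, MulAut.conj_apply, hqt] at this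
      exact this
    exact hconjN ht ht1 hyP hy1 hc (hmemP ht ht1 hyP hy1 hc (pPow_conj q hy) hcq) (by rw [hqt]; exact hcq)
  -- only `t` fixes a non-identity element of `P`
  have honly : ∀ v ∈ (Q : Subgroup G), v ≠ 1 → ∀ e ∈ (P : Subgroup G), e ≠ 1 → Commute e v → v = t := by
    intro v hv hv1 e he he1 hev
    obtain ⟨x, ⟨k, hk⟩, hx, htr⟩ := c.transitive Q
    obtain ⟨i, hi⟩ := htr v hv hv1 t htQ ht1
    have hev' : Commute (x ^ i * e * (x ^ i)⁻¹) t := by
      have := hev.map (MulAut.conj (x ^ i)).toMonoidHom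
      simp only [MulEquiv.coe_toMonoidHom, MulAut.conj_apply, hi] at this
      exact this
    obtain ⟨m, hm⟩ := pPow_of_mem P.2 he
    have hgN := hconjN (hQ2.2 v hv) hv1 he he1 hev (hmemP ht ht1 hyP hy1 hc (pPow_conj (x ^ i) hm) hev') (by rw [hi]; exact hev')
    have hxi : (x ^ i) ^ p ^ k = 1 := by rw [← zpow_natCast, ← zpow_mul, mul_comm, zpow_mul, zpow_natCast, hk, one_zpow]
    have hgP := mem_sylow_of_normalize P hxi hgN
    have e1 : x ^ i * v * (x ^ i)⁻¹ * v⁻¹ ∈ (P : Subgroup G) := by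
      have := mul_mem hgP ((mem_normalizer_iff.1 (hQN hv) _).1 (inv_mem hgP))
      rwa [show x ^ i * (v * (x ^ i)⁻¹ * v⁻¹) = x ^ i * v * (x ^ i)⁻¹ * v⁻¹ by group] at this
    have e2 : x ^ i * v * (x ^ i)⁻¹ * v⁻¹ ∈ (Q : Subgroup G) :=
      mul_mem ((mem_normalizer_iff.1 (zpow_mem hx i) v).1 hv) (inv_mem hv)
    obtain ⟨a, ha⟩ := pPow_of_mem P.2 e1
    obtain ⟨b, hb⟩ := pPow_of_mem Q.2 e2
    rw [← hi]
    exact (mul_inv_eq_one.1 (eq_one_of_coprime_pows ha hb c.coprime_two)).symm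
  have hinv : ∀ v ∈ (Q : Subgroup G), v ≠ 1 → v ≠ t → ∀ a ∈ (P : Subgroup G), v * a * v = a⁻¹ := by
    intro v hv hv1 hvt a ha
    have hvv := hQ2.2 v hv
    have hvi := inv_eq_of_mul_eq_one_right hvv
    have hva : v * a * v ∈ (P : Subgroup G) := by
      have := (mem_normalizer_iff.1 (hQN hv) a).1 ha
      rwa [hvi] at this
    by_cases h : a * (v * a * v) = 1
    · exact (inv_eq_of_mul_eq_one_right h).symm
    · refine absurd (honly v hv hv1 _ (mul_mem ha hva) h ((commute_iff_conj hvv).1 ?_).symm) hvt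
      rw [hPab a ha _ hva]
      calc v * (v * a * v * a) * v = (v * v) * a * (v * a * v) := by simp only [mul_assoc]
        _ = v * a * v * a := by rw [hvv, one_mul, hPab a ha _ hva]
  have hcard := c.two Q
  obtain ⟨v, hv, hv1, hvt⟩ : ∃ v ∈ (Q : Subgroup G), v ≠ 1 ∧ v ≠ t := by
    by_contra! h
    have hsub : ((Q : Subgroup G) : Set G) ⊆ {1, t} := fun v hv => by
      by_cases hv1 : v = 1
      · exact Or.inl hv1
      · exact Or.inr (h v hv hv1)
    have := (Set.ncard_le_ncard hsub (Set.toFinite _)).trans (Set.ncard_insert_le _ _)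
    rw [Set.ncard_singleton, ← Nat.card_coe_set_eq] at this
    change Nat.card (Q : Subgroup G) ≤ 2 at this
    have := hp.out.two_le
    omega
  have htv1 : t * v ≠ 1 := fun h => hvt (by
    rw [eq_inv_of_mul_eq_one_left h, inv_eq_of_mul_eq_one_right (hQ2.2 v hv)])
  have htvt : t * v ≠ t := fun h => hv1 (mul_eq_left.1 h)
  have htP : ∀ a ∈ (P : Subgroup G), Commute a t := by
    intro a ha
    refine ((commute_iff_conj ht).1 ?_).symm
    have h1 := hinv (t * v) (mul_mem htQ hv) htv1 htvt a⁻¹ (inv_mem ha)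
    rw [inv_inv] at h1
    have h2 := hinv v hv hv1 hvt a ha
    calc t * a * t = t * (v * a⁻¹ * v) * t := by
          rw [← h2]
          have hcan : ∀ x, v * (v * x) = x := fun x => by rw [← mul_assoc, hQ2.2 v hv, one_mul]
          simp only [mul_assoc, hcan]
      _ = t * v * a⁻¹ * (t * v) := by rw [hQ2.1 t htQ v hv]; simp only [← mul_assoc]; rw [← hQ2.1 t htQ v hv]
      _ = a := h1
  refine ⟨htP, fun w hw hcw => ?_, hinv, ?_⟩
  · by_cases hw1 : w = 1
    · exact Or.inl hw1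
    · exact Or.inr (honly w hw hw1 y hyP hy1 (hcw y hyP))
  have hall : ((Q : Subgroup G) : Set G) = {1, t, v, t * v} := by
    refine Set.Subset.antisymm (fun w hw => ?_) ?_
    · by_cases hw1 : w = 1
      · exact Or.inl hw1
      by_cases hwt : w = t
      · exact Or.inr (Or.inl hwt)
      by_cases hwv : w = v
      · exact Or.inr (Or.inr (Or.inl hwv))
      refine Or.inr (Or.inr (Or.inr ?_))
      have h1 : v * w = t := by
        refine honly _ (mul_mem hv hw) (fun h => hwv ?_) y hyP hy1 ?_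
        · rw [← inv_eq_of_mul_eq_one_right h, inv_eq_of_mul_eq_one_right (hQ2.2 v hv)]
        refine ((commute_iff_conj (hQ2.2 _ (mul_mem hv hw))).1 ?_).symm
        calc v * w * y * (v * w) = v * (w * y * w) * v := by
              conv_lhs => rw [hQ2.1 v hv w hw]
              conv_lhs => enter [1, 1]; rw [← hQ2.1 v hv w hw]
              simp only [mul_assoc]
          _ = y := by rw [hinv w hw hw1 hwt y hyP, hinv v hv hv1 hvt _ (inv_mem hyP), inv_inv]
      show w = t * v
      rw [← h1, hQ2.1 v hv w hw, mul_assoc, hQ2.2 v hv, mul_one]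
    · rintro w (rfl | rfl | rfl | rfl)
      · exact one_mem _
      · exact htQ
      · exact hv
      · exact mul_mem htQ hv
  show Nat.card ↥((Q : Subgroup G) : Set G) = 4
  rw [Nat.card_coe_set_eq, hall, Set.ncard_insert_of_notMem, Set.ncard_insert_of_notMem, Set.ncard_pair] <;>
    simp [ht1.symm, hv1.symm, htv1.symm, hvt.symm, Ne.symm htvt, hv1, ht1]

end PartB

theorem Ctx.no_caseB {y₀ t₀ : G} {n₀ : ℕ} (hy₀ : y₀ ^ p ^ n₀ = 1) (hy₀1 : y₀ ≠ 1) (ht₀ : t₀ * t₀ = 1) (ht₀1 : t₀ ≠ 1)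
    (hc₀ : Commute y₀ t₀) : False := by
  classical
  haveI := Fact.mk Nat.prime_two
  haveI : Fintype G := Fintype.ofFinite G
  obtain ⟨P₀, hy₀P, hP₀t, hQ₀⟩ := c.caseB hy₀ hy₀1 ht₀ ht₀1 hc₀
  have hfour : ∀ Q : Sylow 2 G, Nat.card (Q : Subgroup G) = 4 := fun Q => by
    obtain ⟨Q₁, h1, -⟩ := c.exists_common_sylow ht₀ ht₀ (Commute.refl t₀)
    rw [c.two Q, ← c.two Q₁, (hQ₀ Q₁ h1).2.2]
  -- at most one involution centralizes a Sylow `p`-subgroup
  have huniq : ∀ (P : Sylow p G) {s s' : G}, s * s = 1 → s ≠ 1 → s' * s' = 1 → s' ≠ 1 →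
      (∀ a ∈ (P : Subgroup G), Commute a s) → (∀ a ∈ (P : Subgroup G), Commute a s') → s = s' := by
    intro P s s' hs hs1 hs' hs'1 hc hc'
    obtain ⟨e, he, he1⟩ := (bot_or_exists_ne_one (P : Subgroup G)).resolve_left (c.P_ne_bot P)
    obtain ⟨k, hk⟩ := pPow_of_mem P.2 he
    obtain ⟨P₁, heP₁, -, hQ₁⟩ := c.caseB hk he1 hs hs1 (hc e he)
    obtain ⟨P₂, -, -, hu₂⟩ := c.Pd hk he1 hs hs1 (hc e he)
    have hP : P₁ = P := (hu₂ P₁ heP₁).trans (hu₂ P he).symm
    subst hP
    have hcomm : Commute s s' := by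
      by_contra hne
      obtain ⟨z, hz1, hz, hzs, -, hzm⟩ := c.inverted_pair hs hs1 hs' hs'1 hne
      have hze : Commute z e := by
        obtain ⟨i, rfl⟩ := hzm
        exact ((hc e he).mul_right (hc' e he)).symm.zpow_left i
      obtain ⟨P₃, -, hN, hu₃⟩ := c.Pd hk he1 hs hs1 (hc e he)
      rw [← hu₃ P₁ he] at hN
      have hzP := mem_sylow_of_normalize P₁ (n := 1) (by rw [pow_one]; exact hz) (hN (mem_normalizer_of_commute hze))
      have hzfix : s * z * s = z := (commute_iff_conj hs).2 (hc z hzP).symm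
      rw [hzfix] at hzs
      exact hz1 (c.pelt_invol (n := 1) (by rw [pow_one]; exact hz) (by nth_rewrite 1 [hzs]; exact inv_mul_cancel z))
    obtain ⟨Q, hsQ, hs'Q⟩ := c.exists_common_sylow hs hs' hcomm
    exact (((hQ₁ Q hsQ).1 s' hs'Q hc').resolve_left hs'1).symm
  have hexP : ∀ P : Sylow p G, ∃ s : G, s * s = 1 ∧ s ≠ 1 ∧ ∀ a ∈ (P : Subgroup G), Commute a s := by
    intro P
    obtain ⟨g, hg⟩ := MulAction.exists_smul_eq G P₀ P
    refine ⟨g * t₀ * g⁻¹, (invol_conj g ht₀ ht₀1).1, (invol_conj g ht₀ ht₀1).2, fun a ha => ?_⟩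
    rw [← hg] at ha
    have := (hP₀t _ (Transfer.mem_smul_sylow.1 ha)).map (MulAut.conj g).toMonoidHom
    simpa [mul_assoc] using this
  let I := {t : G // t * t = 1 ∧ t ≠ 1}
  let adj : I → I → Prop := fun s s' => s.1 ≠ s'.1 ∧ Commute s.1 s'.1
  have hfourset : ∀ {Q : Sylow 2 G} {t t' : G}, t ∈ (Q : Subgroup G) → t' ∈ (Q : Subgroup G) → t ≠ 1 → t' ≠ 1 → t ≠ t' →
      ((Q : Subgroup G) : Set G) = {1, t, t', t * t'} := by
    intro Q t t' ht ht' ht1 ht'1 hne
    refine (Set.eq_of_subset_of_ncard_le ?_ ?_ (Set.toFinite _)).symm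
    · rintro w (rfl | rfl | rfl | rfl)
      · exact one_mem _
      · exact ht
      · exact ht'
      · exact mul_mem ht ht'
    · rw [← Nat.card_coe_set_eq]
      show Nat.card (Q : Subgroup G) ≤ _
      have htt : t * t = 1 := (c.two_group Q.2).2 t ht
      have h3 : t * t' ≠ 1 := fun h => hne (by
        rw [← inv_eq_of_mul_eq_one_right h, inv_eq_of_mul_eq_one_right htt])
      rw [hfour Q, Set.ncard_insert_of_notMem, Set.ncard_insert_of_notMem, Set.ncard_pair] <;>
        simp [ht1.symm, ht'1.symm, hne, h3.symm, Ne.symm hne, ht1, ht'1]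
  -- two distinct involutions have exactly one common neighbour
  have hfriend : ∀ t u : I, t ≠ u → ∃! s : I, adj t s ∧ adj s u := by
    rintro ⟨t, ht, ht1⟩ ⟨u, hu, hu1⟩ htu
    have htu' : t ≠ u := fun h => htu (Subtype.ext h)
    by_cases hc : Commute t u
    · have h3 : t * u ≠ 1 := fun h => htu' (by
        rw [← inv_eq_of_mul_eq_one_right h, inv_eq_of_mul_eq_one_right ht])
      have h4 : t * u * (t * u) = 1 := by
        calc t * u * (t * u) = t * (u * t) * u := by simp only [mul_assoc]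
          _ = t * (t * u) * u := by rw [hc.eq]
          _ = 1 := by rw [← mul_assoc t t, ht, one_mul, hu]
      refine ⟨⟨t * u, h4, h3⟩, ⟨⟨fun h => hu1 (left_eq_mul.1 h), (Commute.refl t).mul_right hc⟩,
        fun h => ht1 (mul_eq_right.1 h), hc.mul_left (Commute.refl u)⟩, ?_⟩
      rintro ⟨s, hs, hs1⟩ ⟨⟨h1, c1⟩, h2, c2⟩
      apply Subtype.ext
      obtain ⟨Q, htQ, huQ⟩ := c.exists_common_sylow ht hu hc
      show s = t * u
      have hCQ : ∀ w : G, Commute t w → Commute w u → w * w = 1 → w ∈ (Q : Subgroup G) := by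
        intro w hw1' hw2' hww
        obtain ⟨Q', htQ', hwQ'⟩ := c.exists_common_sylow ht hww hw1'
        obtain ⟨Q'', htuQ, -⟩ := c.exists_common_sylow ht ht (Commute.refl t)
        -- a 2-group containing the three elements
        have hA : IsPGroup 2 (zpowers w) := isPGroup_zpowers (n := 1) (by rw [pow_one, pow_two, hww])
        have hB : IsPGroup 2 ↥(zpowers t ⊔ zpowers u) := Q.2.to_le (sup_le (zpowers_le.2 htQ) (zpowers_le.2 huQ))
        have hwn : zpowers w ≤ normalizer ((zpowers t ⊔ zpowers u : Subgroup G) : Set G) := by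
          refine zpowers_le.2 (centralizer_le_normalizer _ (mem_centralizer_iff.2 fun a ha => ?_))
          have : zpowers t ⊔ zpowers u ≤ centralizer ({w} : Set G) :=
            sup_le (zpowers_le.2 (mem_centralizer_of_commute hw1')) (zpowers_le.2 (mem_centralizer_of_commute hw2'.symm))
          exact mem_centralizer_singleton_iff.1 (this ha)
        obtain ⟨Q₃, hQ₃⟩ := (IsPGroup.to_sup_of_normal_right' hA hB hwn).exists_le_sylow
        have e3 := hfourset (hQ₃ (mem_sup_right (mem_sup_left (mem_zpowers t)))) (hQ₃ (mem_sup_right (mem_sup_right (mem_zpowers u)))) ht1 hu1 htu'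
        have e0 := hfourset htQ huQ ht1 hu1 htu'
        show w ∈ ((Q : Subgroup G) : Set G)
        rw [e0, ← e3]
        exact hQ₃ (mem_sup_left (mem_zpowers w))
      have := hCQ s c1 c2 hs
      rw [← SetLike.mem_coe, hfourset htQ huQ ht1 hu1 htu'] at this
      rcases this with h | h | h | h
      · exact absurd h hs1
      · exact absurd h.symm h1
      · exact absurd h h2
      · exact h
    · obtain ⟨z, hz1, hz, hzt, hzu, -⟩ := c.inverted_pair ht ht1 hu hu1 hc
      obtain ⟨P, hzP, hzN, -⟩ := c.Pz hz hz1 ht ht1 hzt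
      obtain ⟨s, hs, hs1, hsP⟩ := hexP P
      have hcs : ∀ w : G, w * w = 1 → w * z * w = z⁻¹ → w ≠ s ∧ Commute w s := by
        intro w hw hwz
        have hwN := hzN (invol_normalizes hw (Or.inl hwz))
        have hwi := inv_eq_of_mul_eq_one_right hw
        refine ⟨fun h => hz1 ?_, ?_⟩
        · subst h
          rw [(commute_iff_conj hw).2 (hsP z hzP).symm] at hwz
          exact c.pelt_invol (n := 1) (by rw [pow_one]; exact hz) (by nth_rewrite 1 [hwz]; exact inv_mul_cancel z)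
        · refine (commute_iff_conj hw).1 ?_
          have := invol_conj w hs hs1
          rw [hwi] at this
          refine (huniq P hs hs1 this.1 this.2 hsP fun a ha => ?_).symm
          have ha' : w⁻¹ * a * w ∈ (P : Subgroup G) :=
            (mem_normalizer_iff.1 hwN _).2 (by simpa [mul_assoc] using ha)
          have := (hsP _ ha').map (MulAut.conj w).toMonoidHom
          simp only [MulEquiv.coe_toMonoidHom, MulAut.conj_apply, hwi] at this
          rwa [show w * (w * a * w) * w = (w * w) * a * (w * w) by simp only [mul_assoc], hw, one_mul, mul_one] at this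
      refine ⟨⟨s, hs, hs1⟩, ⟨hcs t ht hzt, (hcs u hu hzu).1.symm, (hcs u hu hzu).2.symm⟩, ?_⟩
      rintro ⟨s', hs', hs'1⟩ ⟨⟨h1, c1⟩, h2, c2⟩
      apply Subtype.ext
      show s' = s
      have c3 : Commute t s := (hcs t ht hzt).2
      have c4 : Commute s u := (hcs u hu hzu).2.symm
      by_contra hne
      by_cases hcc : Commute s s'
      · obtain ⟨Q, hsQ, hs'Q⟩ := c.exists_common_sylow hs hs' hcc
        -- both `t` and `u` lie in this Sylow subgroup
        have hin : ∀ w : G, w * w = 1 → Commute w s → Commute w s' → w ∈ (Q : Subgroup G) := by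
          intro w hw cw cw'
          have hA : IsPGroup 2 (zpowers w) := isPGroup_zpowers (n := 1) (by rw [pow_one, pow_two, hw])
          have hB : IsPGroup 2 ↥(zpowers s ⊔ zpowers s') := Q.2.to_le (sup_le (zpowers_le.2 hsQ) (zpowers_le.2 hs'Q))
          have hwn : zpowers w ≤ normalizer ((zpowers s ⊔ zpowers s' : Subgroup G) : Set G) := by
            refine zpowers_le.2 (centralizer_le_normalizer _ (mem_centralizer_iff.2 fun a ha => ?_))
            have : zpowers s ⊔ zpowers s' ≤ centralizer ({w} : Set G) :=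
              sup_le (zpowers_le.2 (mem_centralizer_of_commute cw.symm)) (zpowers_le.2 (mem_centralizer_of_commute cw'.symm))
            exact mem_centralizer_singleton_iff.1 (this ha)
          obtain ⟨Q₃, hQ₃⟩ := (IsPGroup.to_sup_of_normal_right' hA hB hwn).exists_le_sylow
          have e3 := hfourset (hQ₃ (mem_sup_right (mem_sup_left (mem_zpowers s)))) (hQ₃ (mem_sup_right (mem_sup_right (mem_zpowers s')))) hs1 hs'1 (Ne.symm hne)
          show w ∈ ((Q : Subgroup G) : Set G)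
          rw [hfourset hsQ hs'Q hs1 hs'1 (Ne.symm hne), ← e3]
          exact hQ₃ (mem_sup_left (mem_zpowers w))
        exact hc ((c.two_group Q.2).1 _ (hin t ht c3 c1) _ (hin u hu c4.symm c2.symm))
      · obtain ⟨z', hz'1, hz', hz's, -, hz'm⟩ := c.inverted_pair hs hs1 hs' hs'1 hcc
        obtain ⟨i, hi⟩ := hz'm
        have hcz : ∀ w : G, Commute w s → Commute w s' → Commute z' w := fun w a b => by
          rw [← hi]; exact (a.mul_right b).symm.zpow_left i
        have hz'n : z' ^ p ^ 1 = 1 := by rw [pow_one]; exact hz'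
        obtain ⟨P₁, hz₁, hP₁, -⟩ := c.caseB hz'n hz'1 ht ht1 (hcz t c3 c1)
        obtain ⟨P₂, hz₂, hP₂, -⟩ := c.caseB hz'n hz'1 hu hu1 (hcz u c4.symm c2.symm)
        obtain ⟨P₃, -, -, hu₃⟩ := c.Pd hz'n hz'1 ht ht1 (hcz t c3 c1)
        have : P₁ = P₂ := (hu₃ P₁ hz₁).trans (hu₃ P₂ hz₂).symm
        subst this
        exact htu' (huniq P₁ ht ht1 hu hu1 hP₁ hP₂)
  -- every involution has the same number of neighbours
  let t₀' : I := ⟨t₀, ht₀, ht₀1⟩
  let k := Nat.card {s : I // adj t₀' s}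
  have hreg : ∀ t : I, Nat.card {s : I // adj t s} = k := by
    rintro ⟨t, ht, ht1⟩
    obtain ⟨g, hg⟩ := c.conj_invol ht₀ ht₀1 ht ht1
    let e : I ≃ I :=
      { toFun := fun s => ⟨g * s.1 * g⁻¹, invol_conj g s.2.1 s.2.2⟩
        invFun := fun s => ⟨g⁻¹ * s.1 * g, by simpa using invol_conj g⁻¹ s.2.1 s.2.2⟩
        left_inv := fun s => Subtype.ext (by simp [mul_assoc])
        right_inv := fun s => Subtype.ext (by simp [mul_assoc]) }
    refine (Nat.card_congr (e.subtypeEquiv fun s => ?_)).symm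
    show (t₀ ≠ s.1 ∧ Commute t₀ s.1) ↔ (t ≠ g * s.1 * g⁻¹ ∧ Commute t (g * s.1 * g⁻¹))
    constructor
    · rintro ⟨a, b⟩
      refine ⟨fun h => a ?_, ?_⟩
      · exact mul_left_cancel (mul_right_cancel (hg.trans h))
      · have := b.map (MulAut.conj g).toMonoidHom
        simpa [hg] using this
    · rintro ⟨a, b⟩
      refine ⟨fun h => a (by rw [← hg, h]), ?_⟩
      have := b.map (MulAut.conj g⁻¹).toMonoidHom
      simpa [← hg, mul_assoc] using this
  have hk3 : 3 ≤ k := by
    obtain ⟨Q, htQ, -⟩ := c.exists_common_sylow ht₀ ht₀ (Commute.refl t₀)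
    obtain ⟨v, hv, hv1, hvt⟩ : ∃ v ∈ (Q : Subgroup G), v ≠ 1 ∧ v ≠ t₀ := by
      by_contra! h
      have hsub : ((Q : Subgroup G) : Set G) ⊆ {1, t₀} := fun v hv => by
        by_cases hv1 : v = 1
        · exact Or.inl hv1
        · exact Or.inr (h v hv hv1)
      have := (Set.ncard_le_ncard hsub (Set.toFinite _)).trans (Set.ncard_insert_le _ _)
      rw [Set.ncard_singleton, ← Nat.card_coe_set_eq] at this
      change Nat.card (Q : Subgroup G) ≤ 2 at this
      rw [hfour Q] at this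
      omega
    have hQ2 := c.two_group Q.2
    have hvv := hQ2.2 v hv
    have htv1 : t₀ * v ≠ 1 := fun h => hvt (by
      rw [eq_inv_of_mul_eq_one_left h, inv_eq_of_mul_eq_one_right hvv])
    have hyv : y₀ * v * y₀⁻¹ = y₀ * y₀ * v := by
      have := (hQ₀ Q htQ).2.1 v hv hv1 hvt y₀ hy₀P
      rw [← this, mul_assoc y₀ v, ← mul_assoc v (v * y₀) v, ← mul_assoc v v, hvv, one_mul, ← mul_assoc]
    have hy2 : y₀ * y₀ ≠ 1 := fun h => hy₀1 (c.pelt_invol hy₀ h)
    have hyt : Commute (y₀ * v * y₀⁻¹) t₀ :=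
      ((hc₀.mul_left (hQ2.1 v hv t₀ htQ)).mul_left hc₀.inv_left)
    let a : {s : I // adj t₀' s} := ⟨⟨v, hvv, hv1⟩, hvt.symm, hQ2.1 t₀ htQ v hv⟩
    let b : {s : I // adj t₀' s} := ⟨⟨t₀ * v, hQ2.2 _ (mul_mem htQ hv), htv1⟩,
      fun h => hv1 (left_eq_mul.1 h), hQ2.1 t₀ htQ _ (mul_mem htQ hv)⟩
    let d : {s : I // adj t₀' s} := ⟨⟨y₀ * v * y₀⁻¹, invol_conj y₀ hvv hv1⟩, fun h => hvt (by
      have h' : y₀ * v * y₀⁻¹ = y₀ * t₀ * y₀⁻¹ := by rw [hc₀.eq, mul_inv_cancel_right]; exact h.symm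
      exact mul_left_cancel (mul_right_cancel h')), hyt.symm⟩
    haveI : Fintype {s : I // adj t₀' s} := Fintype.ofFinite _
    show 3 ≤ Nat.card {s : I // adj t₀' s}
    rw [Nat.card_eq_fintype_card]
    refine Fintype.two_lt_card_iff.2 ⟨a, b, d, fun h => ?_, fun h => ?_, fun h => ?_⟩
    · exact ht₀1 (right_eq_mul.1 (congrArg (fun s => s.1.1) h))
    · have h' : v = y₀ * y₀ * v := (congrArg (fun s => s.1.1) h).trans hyv
      exact hy2 (right_eq_mul.1 h')
    · have h' : t₀ * v = y₀ * y₀ * v := (congrArg (fun s => s.1.1) h).trans hyv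
      have h'' : t₀ = y₀ * y₀ := mul_right_cancel h'
      exact ht₀1 (c.pelt_invol (n := n₀) (by rw [h'', ← pow_two, ← pow_mul, mul_comm, pow_mul, hy₀, one_pow]) ht₀)
  -- the adjacency matrix modulo a prime divisor of `k - 1`
  obtain ⟨l, hl, hlk⟩ := Nat.exists_prime_and_dvd (show k - 1 ≠ 1 by omega)
  haveI := Fact.mk hl
  let A : Matrix I I (ZMod l) := Matrix.of fun s s' => if adj s s' then 1 else 0
  let J : Matrix I I (ZMod l) := Matrix.of fun _ _ => 1
  have hk1 : (k : ZMod l) = 1 := by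
    have h : ((k - 1 : ℕ) : ZMod l) = 0 := (ZMod.natCast_eq_zero_iff _ _).2 hlk
    rwa [Nat.cast_sub (by omega), Nat.cast_one, sub_eq_zero] at h
  have hsum : ∀ (P : I → Prop) [DecidablePred P], (∑ s : I, if P s then (1 : ZMod l) else 0) = (Nat.card {s : I // P s} : ZMod l) := by
    intro P _
    rw [Finset.sum_boole, Nat.card_eq_fintype_card, Fintype.card_subtype]
  have hAA : A * A = J := by
    ext t u
    simp only [Matrix.mul_apply, A, J, Matrix.of_apply]
    have : ∀ s : I, (if adj t s then (1 : ZMod l) else 0) * (if adj s u then 1 else 0) = if adj t s ∧ adj s u then 1 else 0 := by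
      intro s; by_cases h1 : adj t s <;> by_cases h2 : adj s u <;> simp [h1, h2]
    simp only [this]
    rw [hsum]
    by_cases h : t = u
    · subst h
      rw [← hk1, ← hreg t]
      congr 1
      refine Nat.card_congr (Equiv.subtypeEquivRight fun s => ⟨fun h => h.1, fun h => ⟨h, h.1.symm, h.2.symm⟩⟩)
    · obtain ⟨s, hs, hsu⟩ := hfriend t u h
      have hone : Nat.card {s : I // adj t s ∧ adj s u} = 1 :=
        Nat.card_eq_one_iff_unique.2 ⟨⟨fun a b => Subtype.ext ((hsu a.1 a.2).trans (hsu b.1 b.2).symm)⟩, ⟨⟨s, hs⟩⟩⟩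
      rw [hone, Nat.cast_one]
  have hAJ : A * J = J := by
    ext t u
    simp only [Matrix.mul_apply, A, J, Matrix.of_apply, mul_one]
    rw [hsum, hreg, hk1]
  have hpow : ∀ n, A ^ (n + 2) = J := by
    intro n
    induction n with
    | zero => rw [pow_two, hAA]
    | succ n ih => rw [pow_succ', ih, hAJ]
  have htrA : Matrix.trace A = 0 := by
    simp only [Matrix.trace, Matrix.diag, A, Matrix.of_apply]
    exact Finset.sum_eq_zero fun s _ => if_neg fun h => h.1 rfl
  have htrJ : Matrix.trace J = 0 := by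
    have h := ZMod.trace_pow_card A
    rw [htrA, zero_pow hl.ne_zero] at h
    obtain ⟨j, hj⟩ : ∃ j, l = j + 2 := ⟨l - 2, by have := hl.two_le; omega⟩
    subst hj
    rwa [hpow j] at h
  have hJJ : J * J = J := by
    calc J * J = A * A * J := by rw [hAA]
      _ = J := by rw [mul_assoc, hAJ, hAJ]
  have hm : (Fintype.card I : ZMod l) = 1 := by
    have h := congrFun (congrFun hJJ t₀') t₀'
    simpa [Matrix.mul_apply, J] using h
  simp [Matrix.trace, J, hm] at htrJ

/-- No configuration. -/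
theorem Ctx.false : False := by
  classical
  haveI := Fact.mk Nat.prime_two
  have hA : ∀ (y t : G) (n : ℕ), y ^ p ^ n = 1 → t * t = 1 → t ≠ 1 → Commute y t → y = 1 := fun y t n hy ht ht1 hc =>
    by_contra fun hy1 => c.no_caseB hy hy1 ht ht1 hc
  haveI : Fintype G := Fintype.ofFinite G
  obtain ⟨t, ht, ht1⟩ := c.exists_invol
  obtain ⟨P₀⟩ : Nonempty (Sylow p G) := inferInstance
  obtain ⟨r, hr, hr2, hrp, hrG⟩ := c.third
  -- centralizers of involutions
  have hC : ∀ (Q : Sylow 2 G), t ∈ (Q : Subgroup G) → centralizer ({t} : Set G) = (Q : Subgroup G) := by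
    intro Q htQ
    refine Q.3 ?_ (fun s hs => mem_centralizer_of_commute ((c.two_group Q.2).1 s hs t htQ))
    refine IsPGroup.of_card (n := (Nat.card (centralizer ({t} : Set G))).primeFactorsList.length) ?_
    refine Nat.eq_prime_pow_of_unique_prime_dvd Nat.card_pos.ne' fun {s} hs hd => ?_
    have htH : t ∈ centralizer ({t} : Set G) := mem_centralizer_of_commute (Commute.refl t)
    refine (c.sub _ (c.centralizer_ne_top ht1) ?_ s hs hd).resolve_right fun hsp => ?_
    · rw [← orderOf_eq_prime (show t ^ 2 = 1 by rw [pow_two, ht]) ht1]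
      exact orderOf_dvd_natCard _ htH
    subst hsp
    obtain ⟨y, hy⟩ := exists_prime_orderOf_dvd_card' s hd
    have h1 : (y : G) = 1 := hA y t 1 (by rw [pow_one, ← hy, ← orderOf_coe, pow_orderOf_eq_one]) ht ht1
      (mem_centralizer_singleton_iff.1 y.2)
    rw [show y = 1 from Subtype.ext h1, orderOf_one] at hy
    exact hs.one_lt.ne hy
  obtain ⟨Q₀, htQ₀, -⟩ := c.exists_common_sylow ht ht (Commute.refl t)
  let I := {s : G // s * s = 1 ∧ s ≠ 1}
  set i := Nat.card I with hi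
  have hiG : i * (p + 1) = Nat.card G := by
    rw [← c.two Q₀, ← hC Q₀ htQ₀, ← card_mul_index (centralizer ({t} : Set G)), mul_comm]
    congr 1
    let g : G ⧸ centralizer ({t} : Set G) → I := Quotient.lift (fun a : G => (⟨a * t * a⁻¹, invol_conj a ht ht1⟩ : I))
      (fun a b hab => Subtype.ext (by
        have hc : Commute (a⁻¹ * b) t := mem_centralizer_singleton_iff.1 (QuotientGroup.leftRel_apply.1 hab)
        calc a * t * a⁻¹ = a * (t * (a⁻¹ * b)) * b⁻¹ := by group
          _ = a * ((a⁻¹ * b) * t) * b⁻¹ := by rw [hc.eq]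
          _ = b * t * b⁻¹ := by group))
    refine (Nat.card_eq_of_bijective g ⟨?_, ?_⟩).symm
    · intro a b
      refine Quotient.inductionOn₂ a b fun a b h => ?_
      refine Quotient.sound (QuotientGroup.leftRel_apply.2 (mem_centralizer_of_commute ?_))
      have h' : a * t * a⁻¹ = b * t * b⁻¹ := congrArg Subtype.val h
      show a⁻¹ * b * t = t * (a⁻¹ * b)
      calc a⁻¹ * b * t = a⁻¹ * (b * t * b⁻¹) * b := by group
        _ = t * (a⁻¹ * b) := by rw [← h']; group
    · rintro ⟨u, hu, hu1⟩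
      obtain ⟨a, ha⟩ := c.conj_invol ht ht1 hu hu1
      exact ⟨QuotientGroup.mk a, Subtype.ext ha⟩
  set M := Nat.card (P₀ : Subgroup G) with hM
  have hMP : ∀ P : Sylow p G, Nat.card (P : Subgroup G) = M := fun P => Sylow.card_eq_multiplicity P |>.trans
    (Sylow.card_eq_multiplicity P₀).symm
  -- involutions in the normalizer of a Sylow subgroup
  have hNP : ∀ P : Sylow p G, Nat.card {s : I // s.1 ∈ normalizer ((P : Subgroup G) : Set G)} = M ∧
      Nat.card (normalizer ((P : Subgroup G) : Set G)) = M * 2 := by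
    intro P
    haveI := c.ab P
    have hPab : ∀ a ∈ (P : Subgroup G), ∀ b ∈ (P : Subgroup G), a * b = b * a := fun a ha b hb =>
      congrArg Subtype.val ((IsMulCommutative.is_comm (M := (P : Subgroup G))).comm ⟨a, ha⟩ ⟨b, hb⟩)
    set NP := normalizer ((P : Subgroup G) : Set G)
    have hinv : ∀ w : G, w * w = 1 → w ≠ 1 → w ∈ NP → ∀ a ∈ (P : Subgroup G), w * a * w = a⁻¹ := by
      intro w hw hw1 hwP a ha
      have hwi := inv_eq_of_mul_eq_one_right hw
      have hwa : w * a * w ∈ (P : Subgroup G) := by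
        have := (mem_normalizer_iff.1 hwP a).1 ha
        rwa [hwi] at this
      obtain ⟨m, hm⟩ := pPow_of_mem P.2 (mul_mem ha hwa)
      refine (inv_eq_of_mul_eq_one_right (hA _ w m hm hw hw1 ((commute_iff_conj hw).1 ?_).symm)).symm
      rw [hPab a ha _ hwa]
      calc w * (w * a * w * a) * w = (w * w) * a * (w * a * w) := by simp only [mul_assoc]
        _ = w * a * w * a := by rw [hw, one_mul, hPab a ha _ hwa]
    have hprod : ∀ v w : G, v * v = 1 → v ≠ 1 → v ∈ NP → w * w = 1 → w ≠ 1 → w ∈ NP → v * w ∈ (P : Subgroup G) := by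
      intro v w hv hv1 hvP hw hw1 hwP
      have hcP : ∀ a ∈ (P : Subgroup G), Commute (v * w) a := fun a ha => by
        have hvi := inv_eq_of_mul_eq_one_right hv
        have hwi := inv_eq_of_mul_eq_one_right hw
        show v * w * a = a * (v * w)
        calc v * w * a = v * (w * a * w) * w := by simp only [mul_assoc, hw, mul_one]
          _ = v * a⁻¹ * w := by rw [hinv w hw hw1 hwP a ha]
          _ = (v * a⁻¹ * v) * (v * w) := by simp only [mul_assoc]; rw [← mul_assoc v v, hv, one_mul]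
          _ = a * (v * w) := by rw [hinv v hv hv1 hvP _ (inv_mem ha), inv_inv]
      obtain ⟨e, he, he1⟩ := (bot_or_exists_ne_one (P : Subgroup G)).resolve_left (c.P_ne_bot P)
      have hy := mul_mem hvP hwP
      suffices h : ∃ n, (v * w) ^ p ^ n = 1 by
        obtain ⟨n, hn⟩ := h
        exact mem_sylow_of_normalize P hn hy
      have hpp := Nat.eq_prime_pow_of_unique_prime_dvd (p := p) (orderOf_pos (v * w)).ne' (fun {s} hs hd => ?_)
      · exact ⟨_, by rw [← hpp]; exact pow_orderOf_eq_one _⟩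
      refine (c.sub NP (c.normalizer_ne_top (c.P_ne_bot P) P.2) (c.two_dvd_normalizer P) s hs
        (hd.trans (orderOf_dvd_natCard NP hy))).resolve_left fun h2 => ?_
      subst h2
      obtain ⟨j, hj⟩ := hd
      have hj0 : j ≠ 0 := fun h => by rw [h, mul_zero] at hj; exact (orderOf_pos (v * w)).ne' hj
      obtain ⟨n, hn⟩ := pPow_of_mem P.2 he
      refine he1 (hA e ((v * w) ^ j) n hn ?_ ?_ ((hcP e he).pow_left j).symm)
      · rw [← pow_add, show j + j = orderOf (v * w) by rw [hj]; omega, pow_orderOf_eq_one]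
      · intro h
        have := Nat.le_of_dvd (Nat.pos_of_ne_zero hj0) (orderOf_dvd_of_pow_eq_one h)
        rw [hj] at this
        omega
    obtain ⟨w, hw, hw1, hwP⟩ := c.even_normalizer P
    constructor
    · rw [← hMP P]
      let f : {s : I // s.1 ∈ NP} → (P : Subgroup G) := fun s => ⟨w * s.1.1, hprod w _ hw hw1 hwP s.1.2.1 s.1.2.2 s.2⟩
      refine Nat.card_eq_of_bijective f ⟨fun a b h => Subtype.ext (Subtype.ext (mul_left_cancel (congrArg Subtype.val h))), fun a => ?_⟩
      refine ⟨⟨⟨w * (a : G), ?_, ?_⟩, mul_mem hwP (le_normalizer a.2)⟩, Subtype.ext ?_⟩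
      · rw [show w * (a : G) * (w * a) = (w * a * w) * a by simp only [mul_assoc], hinv w hw hw1 hwP a a.2, inv_mul_cancel]
      · intro h
        obtain ⟨n, hn⟩ := pPow_of_mem P.2 a.2
        have e : (a : G) = w := by rw [← inv_eq_of_mul_eq_one_right h, inv_eq_of_mul_eq_one_right hw]
        exact hw1 (e ▸ c.pelt_invol hn (e.symm ▸ hw))
      · show w * (w * (a : G)) = a
        rw [← mul_assoc, hw, one_mul]
    · have hsup : NP ≤ (P : Subgroup G) ⊔ zpowers w := by
        have hsub : ∀ g ∈ NP, ∀ n, g ^ 2 ^ n = 1 → g ∈ (P : Subgroup G) ⊔ zpowers w := by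
          intro g hg n hn
          by_cases hg1 : g = 1
          · rw [hg1]; exact one_mem _
          have := mul_mem (mem_sup_right (mem_zpowers w) : w ∈ (P : Subgroup G) ⊔ zpowers w)
            (mem_sup_left (hprod w g hw hw1 hwP (c.sq hn) hg1 hg) : w * g ∈ (P : Subgroup G) ⊔ zpowers w)
          rwa [← mul_assoc, hw, one_mul] at this
        intro g hg
        set Z := ((P : Subgroup G) ⊔ zpowers w).subgroupOf NP
        suffices Z = ⊤ from mem_subgroupOf.1 (this ▸ mem_top (⟨g, hg⟩ : NP))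
        refine eq_top_of_card_eq _ (Nat.dvd_antisymm (card_subgroup_dvd_card _) ?_)
        refine (Nat.dvd_iff_prime_pow_dvd_dvd _ _).2 fun r e hr hd => ?_
        rcases Nat.eq_zero_or_pos e with rfl | he
        · simp
        rcases c.sub NP (c.normalizer_ne_top (c.P_ne_bot P) P.2) (c.two_dvd_normalizer P) r hr
            ((dvd_pow_self r he.ne').trans hd) with rfl | rfl
        · obtain ⟨W⟩ : Nonempty (Sylow 2 NP) := inferInstance
          refine (W.pow_dvd_card_of_pow_dvd_card hd).trans (card_dvd_of_le fun a ha => mem_subgroupOf.2 ?_)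
          obtain ⟨m, hm⟩ := pPow_of_mem W.2 ha
          exact hsub a a.2 m (by simpa using congrArg Subtype.val hm)
        · obtain ⟨T⟩ : Nonempty (Sylow r NP) := inferInstance
          refine (T.pow_dvd_card_of_pow_dvd_card hd).trans (card_dvd_of_le fun a ha => mem_subgroupOf.2 (mem_sup_left ?_))
          obtain ⟨m, hm⟩ := pPow_of_mem T.2 ha
          exact mem_sylow_of_normalize P (n := m) (by simpa using congrArg Subtype.val hm) a.2
      have hd : Nat.card NP ∣ M * 2 := by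
        rw [← hMP P]
        exact (card_dvd_of_le hsup).trans (ThreeTr.Triple.card_sup_zpowers_dvd _ w hwP (by rw [pow_two, hw]))
      refine Nat.dvd_antisymm hd (Nat.Coprime.mul_dvd_of_dvd_of_dvd ?_ ?_ (c.two_dvd_normalizer P))
      · obtain ⟨m, hm⟩ := IsPGroup.iff_card.1 P.2
        rw [← hMP P, hm, ← pow_one 2]
        exact c.coprime_two
      · rw [← hMP P]
        exact card_dvd_of_le le_normalizer
  -- incidences
  set n := Nat.card (Sylow p G) with hn
  have hnG : n * (M * 2) = Nat.card G := by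
    rw [hn, P₀.card_eq_index_normalizer, ← (hNP P₀).2, mul_comm]
    exact card_mul_index (normalizer ((P₀ : Subgroup G) : Set G))
  let cc := Nat.card {P : Sylow p G // t ∈ normalizer ((P : Subgroup G) : Set G)}
  have hconst : ∀ s : I, Nat.card {P : Sylow p G // s.1 ∈ normalizer ((P : Subgroup G) : Set G)} = cc := by
    rintro ⟨s, hs, hs1⟩
    obtain ⟨g, hg⟩ := c.conj_invol ht ht1 hs hs1
    refine (Nat.card_congr ((MulAction.toPerm g : Equiv.Perm (Sylow p G)).subtypeEquiv fun P => ?_)).symm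
    show t ∈ normalizer ((P : Subgroup G) : Set G) ↔ s ∈ normalizer (((g • P : Sylow p G) : Subgroup G) : Set G)
    refine Sylow.smul_eq_iff_mem_normalizer.symm.trans (Iff.trans ?_ Sylow.smul_eq_iff_mem_normalizer)
    rw [← mul_smul, ← hg, show g * t * g⁻¹ * g = g * t by group, mul_smul, smul_left_cancel_iff]
  have hinc : n * M = i * cc := by
    have e : (Σ P : Sylow p G, {s : I // s.1 ∈ normalizer ((P : Subgroup G) : Set G)}) ≃
        (Σ s : I, {P : Sylow p G // s.1 ∈ normalizer ((P : Subgroup G) : Set G)}) :=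
      { toFun := fun x => ⟨x.2.1, x.1, x.2.2⟩
        invFun := fun x => ⟨x.2.1, x.1, x.2.2⟩
        left_inv := fun _ => rfl
        right_inv := fun _ => rfl }
    have hcong := Nat.card_congr e
    haveI : Fintype (Sylow p G) := Fintype.ofFinite _
    rw [Nat.card_sigma, Nat.card_sigma, Finset.sum_congr rfl (fun P _ => (hNP P).1),
      Finset.sum_congr rfl (fun s _ => hconst s), Finset.sum_const, Finset.sum_const, Finset.card_univ, Finset.card_univ,
      smul_eq_mul, smul_eq_mul, ← Nat.card_eq_fintype_card, ← Nat.card_eq_fintype_card] at hcong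
    exact hcong
  -- the bound
  have hbound : i ≤ p + cc * (M - 1) := by
    let tI : I := ⟨t, ht, ht1⟩
    have hsplit := Nat.card_congr (Equiv.sumCompl (fun s : I => Commute t s.1))
    rw [Nat.card_sum] at hsplit
    have h1 : Nat.card {s : I // Commute t s.1} ≤ p := by
      let f : {s : I // Commute t s.1} → ↥(((Q₀ : Subgroup G) : Set G) \ {1}) := fun s => ⟨s.1.1, by
        show s.1.1 ∈ (Q₀ : Subgroup G)
        rw [← hC Q₀ htQ₀]
        exact mem_centralizer_of_commute s.2.symm, s.1.2.2⟩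
      have hf : Function.Injective f := fun a b h => Subtype.ext (Subtype.ext (congrArg Subtype.val h : (f a).1 = (f b).1))
      refine (Nat.card_le_card_of_injective f hf).trans (le_of_eq ?_)
      rw [Nat.card_coe_set_eq]
      have := Set.ncard_sdiff_singleton_add_one (Q₀ : Subgroup G).one_mem (Set.toFinite ((Q₀ : Subgroup G) : Set G))
      rw [← Nat.card_coe_set_eq ((Q₀ : Subgroup G) : Set G)] at this
      change _ = Nat.card (Q₀ : Subgroup G) at this
      rw [c.two Q₀] at this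
      omega
    have h2 : Nat.card {s : I // ¬ Commute t s.1} ≤ cc * (M - 1) := by
      have hex : ∀ s : {s : I // ¬ Commute t s.1}, ∃ P : Sylow p G,
          t ∈ normalizer ((P : Subgroup G) : Set G) ∧ s.1.1 ∈ normalizer ((P : Subgroup G) : Set G) := by
        rintro ⟨⟨u, hu, hu1⟩, hne⟩
        obtain ⟨z, hz1, hz, hzt, hzu, -⟩ := c.inverted_pair ht ht1 hu hu1 hne
        obtain ⟨P, -, hP, -⟩ := c.Pz hz hz1 ht ht1 hzt
        exact ⟨P, hP (invol_normalizes ht (Or.inl hzt)), hP (invol_normalizes hu (Or.inl hzu))⟩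
      choose π hπ using hex
      let f : {s : I // ¬ Commute t s.1} → Σ P : {P : Sylow p G // t ∈ normalizer ((P : Subgroup G) : Set G)},
          {s : {s : I // s.1 ∈ normalizer ((P.1 : Subgroup G) : Set G)} // s ≠ ⟨tI, P.2⟩} := fun s =>
        ⟨⟨π s, (hπ s).1⟩, ⟨⟨s.1, (hπ s).2⟩, fun h => s.2 (by
          have : s.1.1 = t := congrArg (fun x => x.1.1) h
          rw [this])⟩⟩
      have hf : Function.Injective f := fun a b h => Subtype.ext (congrArg (fun x => x.2.1.1) h)
      haveI : Fintype {P : Sylow p G // t ∈ normalizer ((P : Subgroup G) : Set G)} := Fintype.ofFinite _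
      refine (Nat.card_le_card_of_injective f hf).trans (le_of_eq ?_)
      rw [Nat.card_sigma]
      have hcard : ∀ P : {P : Sylow p G // t ∈ normalizer ((P : Subgroup G) : Set G)},
          Nat.card {s : {s : I // s.1 ∈ normalizer ((P.1 : Subgroup G) : Set G)} // s ≠ ⟨tI, P.2⟩} = M - 1 := fun P => by
        rw [Nat.card_eq_fintype_card, Fintype.card_subtype_compl, Fintype.card_subtype_eq, ← Nat.card_eq_fintype_card, (hNP P.1).1]
      simp only [hcard, Finset.sum_const, Finset.card_univ, smul_eq_mul]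
      rw [← Nat.card_eq_fintype_card]
    omega
  -- arithmetic
  have hipos : 0 < i := Nat.pos_of_ne_zero fun h => by rw [h, zero_mul] at hiG; exact Nat.card_pos.ne hiG
  have h2c : p + 1 = 2 * cc := by
    have : i * (p + 1) = i * (2 * cc) := by
      rw [hiG, ← hnG, mul_left_comm i 2 cc, ← hinc]; ring
    exact Nat.eq_of_mul_eq_mul_left hipos this
  obtain ⟨j, hj⟩ := IsPGroup.iff_card.1 P₀.2
  have hMi : M ∣ i := by
    have hco : Nat.Coprime M (p + 1) := by
      rw [hM, hj]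
      exact Nat.Coprime.pow_left _ (Nat.coprime_self_add_right.2 (Nat.coprime_one_right p))
    exact hco.dvd_of_dvd_mul_right (hiG ▸ ⟨n * 2, by rw [← hnG]; ring⟩)
  obtain ⟨m, hm⟩ := hMi
  have hMpos : 0 < M := Nat.card_pos
  have hnm : n = cc * m := by
    have : M * n = M * (cc * m) := by rw [mul_comm M n, hinc, hm]; ring
    exact Nat.eq_of_mul_eq_mul_left hMpos this
  have hiodd : Odd i := by
    rw [Nat.odd_iff]
    by_contra h
    have h2i : 2 ∣ i := Nat.dvd_of_mod_eq_zero (by omega)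
    refine (hC Q₀ htQ₀ ▸ Q₀.not_dvd_index : ¬ 2 ∣ (centralizer ({t} : Set G)).index) ?_
    have hidx : (centralizer ({t} : Set G)).index = i := by
      have h1 := card_mul_index (centralizer ({t} : Set G))
      rw [hC Q₀ htQ₀, c.two Q₀, ← hiG, mul_comm i] at h1
      rw [hC Q₀ htQ₀]
      exact Nat.eq_of_mul_eq_mul_left (Nat.succ_pos p) h1
    rw [hidx]; exact h2i
  have hmodd : Odd m := (Nat.odd_mul.1 (hm ▸ hiodd)).2
  have hmod : n ≡ 1 [MOD p] := card_sylow_modEq_one p G
  have hm2 : m % p = 2 % p := by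
    have h := (hmod.mul_left 2)
    rw [hnm, ← mul_assoc, ← h2c, mul_one] at h
    have h' : (p + 1) * m % p = m % p := by rw [add_mul, one_mul, Nat.mul_add_mod]
    rw [← h']
    exact h
  have hp3 : 3 ≤ p := by have := hp.out.two_le; have := c.p2; omega
  have hmge : p + 2 ≤ m := by
    rw [Nat.mod_eq_of_lt (by omega : 2 < p)] at hm2
    have h1 := Nat.div_add_mod m p
    rw [hm2] at h1
    rcases Nat.eq_zero_or_pos (m / p) with h0 | h0
    · rw [h0, mul_zero, zero_add] at h1
      exact absurd (h1 ▸ hmodd) (by decide)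
    · nlinarith
  rw [hm] at hbound
  obtain ⟨M', hM'⟩ : ∃ M', M = M' + 1 := ⟨M - 1, by omega⟩
  rw [hM', Nat.add_sub_cancel] at hbound
  nlinarith

end Cfsg.Agent.Lib.Mixed
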