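import Cfsg.Agent.Lib.Mixed.Basic
import Cfsg.Agent.Lib.ThreeTr.Triple

/-!
The critical configuration: `p + 1` is the order of a Sylow 2-subgroup, `p`-Sylow subgroups are abelian.
-/

set_option autoImplicit false

namespace Cfsg.Agent.Lib.Mixed

open Subgroup

variable {G : Type*} [Group G] [Finite G]

/-- An `ℓ`-element normalizing a Sylow `ℓ`-subgroup lies in it. -/
theorem mem_sylow_of_normalize {ℓ : ℕ} [Fact ℓ.Prime] (P : Sylow ℓ G) {y : G} {n : ℕ} (hy : y ^ ℓ ^ n = 1)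
    (hN : y ∈ normalizer ((P : Subgroup G) : Set G)) : y ∈ (P : Subgroup G) := by
  have h := IsPGroup.to_sup_of_normal_right' (isPGroup_zpowers hy) P.2 (zpowers_le.2 hN)
  rw [← P.3 h le_sup_right]
  exact mem_sup_left (mem_zpowers y)

theorem sylow_eq_of_le {ℓ : ℕ} [Fact ℓ.Prime] (P P' : Sylow ℓ G)
    (h : (P' : Subgroup G) ≤ normalizer ((P : Subgroup G) : Set G)) : (P' : Subgroup G) = P :=
  (P'.3 P.2 fun _ hy => by
    obtain ⟨n, hn⟩ := pPow_of_mem P'.2 hy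
    exact mem_sylow_of_normalize P hn (h hy)).symm

theorem exists_sylow_mem {ℓ : ℕ} [Fact ℓ.Prime] {y : G} {n : ℕ} (hy : y ^ ℓ ^ n = 1) :
    ∃ P : Sylow ℓ G, y ∈ (P : Subgroup G) := by
  obtain ⟨P, hP⟩ := (isPGroup_zpowers hy).exists_le_sylow
  exact ⟨P, hP (mem_zpowers y)⟩

/-- If `G = N H` with `N` normal and a prime does not divide `N`, it divides `H`. -/
theorem dvd_card_of_sup {r : ℕ} (hr : r.Prime) (hrG : r ∣ Nat.card G) {N H : Subgroup G} [N.Normal]
    (h : H ⊔ N = ⊤) (hN : ¬ r ∣ Nat.card N) : r ∣ Nat.card H := by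
  have h1 : N.relIndex (H ⊔ N) = N.relIndex H := relIndex_sup_right H N
  rw [h, relIndex_top_right] at h1
  rw [← card_mul_index N, h1] at hrG
  exact ((hr.dvd_mul.1 hrG).resolve_left hN).trans (relIndex_dvd_card _ _)

/-- The configuration. -/
structure Ctx (p : ℕ) [Fact p.Prime] (G : Type*) [Group G] [Finite G] : Prop where
  p2 : p ≠ 2
  mix : MixHyp p 2 G
  two : ∀ Q : Sylow 2 G, Nat.card (Q : Subgroup G) = p + 1
  ab : ∀ P : Sylow p G, IsMulCommutative (P : Subgroup G)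
  sub : ∀ H : Subgroup G, H ≠ ⊤ → 2 ∣ Nat.card H → ∀ r : ℕ, r.Prime → r ∣ Nat.card H → r = 2 ∨ r = p
  third : ∃ r : ℕ, r.Prime ∧ r ≠ 2 ∧ r ≠ p ∧ r ∣ Nat.card G
  moving : ∀ Q : Sylow 2 G, ∃ (x t : G) (n : ℕ), x ^ p ^ n = 1 ∧ x ∈ normalizer ((Q : Subgroup G) : Set G) ∧
    t ∈ (Q : Subgroup G) ∧ x * t * x⁻¹ ≠ t

variable {p : ℕ} [hp : Fact p.Prime] (c : Ctx p G)
include c

theorem Ctx.no_move_fixed {y t : G} {n : ℕ} (hy : y ^ p ^ n = 1) (Q : Sylow 2 G)
    (hyQ : y ∈ normalizer ((Q : Subgroup G) : Set G)) (ht : t ∈ (Q : Subgroup G)) (ht1 : t ≠ 1)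
    (hfix : y * t * y⁻¹ = t) : y ∈ centralizer ((Q : Subgroup G) : Set G) := by
  rw [mem_centralizer_iff]
  intro s hs
  by_contra h
  obtain ⟨i, hi⟩ := (move hy hyQ hs (fun e => h (mul_inv_eq_iff_eq_mul.1 e).symm)).2 (c.two Q) t ht ht1
  apply h
  have hyi : Commute y (y ^ i) := (Commute.refl y).zpow_right i
  have e1 : y ^ i * (y * s * y⁻¹) * (y ^ i)⁻¹ = y ^ i * s * (y ^ i)⁻¹ := by
    rw [hi]
    calc y ^ i * (y * s * y⁻¹) * (y ^ i)⁻¹ = (y ^ i * y) * s * (y ^ i * y)⁻¹ := by group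
      _ = (y * y ^ i) * s * (y * y ^ i)⁻¹ := by rw [hyi.eq]
      _ = y * (y ^ i * s * (y ^ i)⁻¹) * y⁻¹ := by group
      _ = t := by rw [hi, hfix]
  have e2 := mul_left_cancel (mul_right_cancel e1)
  exact (mul_inv_eq_iff_eq_mul.1 e2).symm

theorem Ctx.transitive (Q : Sylow 2 G) : ∃ x : G, (∃ n, x ^ p ^ n = 1) ∧ x ∈ normalizer ((Q : Subgroup G) : Set G) ∧
    ∀ s ∈ (Q : Subgroup G), s ≠ 1 → ∀ s' ∈ (Q : Subgroup G), s' ≠ 1 → ∃ i : ℤ, x ^ i * s * (x ^ i)⁻¹ = s' := by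
  obtain ⟨x, t, n, hn, hx, ht, hne⟩ := c.moving Q
  refine ⟨x, ⟨n, hn⟩, hx, fun s hs hs1 s' hs' hs1' => ?_⟩
  obtain ⟨i, hi⟩ := (move hn hx ht hne).2 (c.two Q) s hs hs1
  obtain ⟨j, hj⟩ := (move hn hx ht hne).2 (c.two Q) s' hs' hs1'
  refine ⟨j - i, ?_⟩
  rw [← hj, ← hi]
  group

theorem Ctx.two_group {U : Subgroup G} (hU : IsPGroup 2 U) :
    (∀ a ∈ U, ∀ b ∈ U, a * b = b * a) ∧ ∀ a ∈ U, a * a = 1 := by
  haveI := Fact.mk Nat.prime_two
  obtain ⟨Q, hQ⟩ := hU.exists_le_sylow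
  obtain ⟨x, t, n, hn, hx, ht, hne⟩ := c.moving Q
  obtain ⟨h1, h2⟩ := elementary_of_move hn hx ht hne (c.two Q) Q.2
  exact ⟨fun a ha b hb => congrArg Subtype.val (h1.is_comm.comm ⟨a, hQ ha⟩ ⟨b, hQ hb⟩), fun a ha => h2 a (hQ ha)⟩

theorem Ctx.sq {y : G} {n : ℕ} (hy : y ^ 2 ^ n = 1) : y * y = 1 :=
  (c.two_group (isPGroup_zpowers hy)).2 y (mem_zpowers y)

theorem Ctx.p_dvd : p ∣ Nat.card G := by
  haveI := Fact.mk Nat.prime_two
  obtain ⟨Q⟩ : Nonempty (Sylow 2 G) := inferInstance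
  obtain ⟨x, t, n, hn, -, -, hne⟩ := c.moving Q
  have hx1 : x ≠ 1 := fun h => hne (by rw [h]; simp)
  exact ((isPGroup_zpowers hn).card_eq_or_dvd.resolve_left fun h => hx1 (by
    rwa [card_eq_one, zpowers_eq_bot] at h)).trans (card_subgroup_dvd_card _)

theorem Ctx.two_dvd : 2 ∣ Nat.card G := by
  haveI := Fact.mk Nat.prime_two
  obtain ⟨Q⟩ : Nonempty (Sylow 2 G) := inferInstance
  exact (even_iff_two_dvd.1 ((hp.out.odd_of_ne_two c.p2).add_one)).trans (c.two Q ▸ card_subgroup_dvd_card _)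

/-- No element of a third prime order normalizes a nontrivial 2-subgroup. -/
theorem Ctx.no_r {U : Subgroup G} (hU : IsPGroup 2 U) (hU1 : U ≠ ⊥) {r : ℕ} (hr : r.Prime) (h2 : r ≠ 2) (hrp : r ≠ p) :
    ¬ r ∣ Nat.card (normalizer (U : Set G)) := fun hd => by
  haveI := Fact.mk hr
  haveI := Fact.mk Nat.prime_two
  obtain ⟨y, hy⟩ := exists_prime_orderOf_dvd_card' r hd
  set V := U ⊔ zpowers (y : G)
  have hle : zpowers (y : G) ≤ normalizer (U : Set G) := zpowers_le.2 y.2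
  obtain ⟨k, hk⟩ := IsPGroup.iff_card.1 hU
  have hcard : Nat.card V ∣ 2 ^ k * r := by
    rw [← hk]
    exact ThreeTr.Triple.card_sup_zpowers_dvd U (y : G) y.2 (by rw [← hy, ← orderOf_coe, pow_orderOf_eq_one])
  have h2V : 2 ∣ Nat.card V := (hU.card_eq_or_dvd.resolve_left (by rwa [card_eq_one])).trans (card_dvd_of_le le_sup_left)
  have hrV : r ∣ Nat.card V := by
    rw [← hy, ← orderOf_coe]
    exact orderOf_dvd_natCard V (mem_sup_right (mem_zpowers _))
  have hnV : ¬ IsPGroup 2 V := fun h => by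
    obtain ⟨m, hm⟩ := IsPGroup.iff_card.1 h
    rw [hm] at hrV
    exact h2 ((Nat.prime_dvd_prime_iff_eq hr Nat.prime_two).1 (hr.dvd_of_dvd_pow hrV))
  rcases hp.out.dvd_mul.1 ((c.mix V hnV h2V).trans hcard) with h | h
  · exact c.p2 ((Nat.prime_dvd_prime_iff_eq hp.out Nat.prime_two).1 (hp.out.dvd_of_dvd_pow h))
  · exact hrp ((Nat.prime_dvd_prime_iff_eq hp.out hr).1 h).symm

/-- No involution normalizes a nontrivial subgroup of order prime to `2p`. -/
theorem Ctx.no_odd {U : Subgroup G} {r : ℕ} (hr : r.Prime) (h2 : r ≠ 2) (hrp : r ≠ p) (hU : IsPGroup r U) (hU1 : U ≠ ⊥)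
    {t : G} (ht : t * t = 1) (ht1 : t ≠ 1) (htN : t ∈ normalizer (U : Set G)) : False := by
  haveI := Fact.mk hr
  set V := U ⊔ zpowers t
  obtain ⟨k, hk⟩ := IsPGroup.iff_card.1 hU
  have ho : orderOf t = 2 := orderOf_eq_prime (by rw [pow_two, ht]) ht1
  have hcard : Nat.card V ∣ r ^ k * 2 := by
    rw [← hk]
    exact ThreeTr.Triple.card_sup_zpowers_dvd U t htN (by rw [pow_two, ht])
  have h2V : 2 ∣ Nat.card V := by
    rw [← ho]
    exact orderOf_dvd_natCard V (mem_sup_right (mem_zpowers t))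
  have hrV : r ∣ Nat.card V := (hU.card_eq_or_dvd.resolve_left (by rwa [card_eq_one])).trans (card_dvd_of_le le_sup_left)
  have hnV : ¬ IsPGroup 2 V := fun h => by
    obtain ⟨m, hm⟩ := IsPGroup.iff_card.1 h
    rw [hm] at hrV
    exact h2 ((Nat.prime_dvd_prime_iff_eq hr Nat.prime_two).1 (hr.dvd_of_dvd_pow hrV))
  rcases hp.out.dvd_mul.1 ((c.mix V hnV h2V).trans hcard) with h | h
  · exact hrp ((Nat.prime_dvd_prime_iff_eq hp.out hr).1 (hp.out.dvd_of_dvd_pow h)).symm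
  · exact c.p2 ((Nat.prime_dvd_prime_iff_eq hp.out Nat.prime_two).1 h)

theorem Ctx.normal_proper_pgroup {M : Subgroup G} [M.Normal] (hM : M ≠ ⊤) : IsPGroup p M := by
  obtain ⟨r, hr, hr2, hrp, hrG⟩ := c.third
  haveI := Fact.mk Nat.prime_two
  have hodd : ¬ 2 ∣ Nat.card M := fun h2 => by
    obtain ⟨S⟩ : Nonempty (Sylow 2 M) := inferInstance
    have hrM : ¬ r ∣ Nat.card M := dvd_or_of_mem_primes (c.sub M hM h2) hr hr2 hrp
    refine c.no_r (S.2.map M.subtype) (fun h => ?_) hr hr2 hrp (dvd_card_of_sup hr hrG (Sylow.normalizer_sup_eq_top S) hrM)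
    rw [map_eq_bot_iff_of_injective _ M.subtype_injective] at h
    exact S.ne_bot_of_dvd_card h2 h
  refine IsPGroup.of_card (n := (Nat.card M).primeFactorsList.length) ?_
  refine Nat.eq_prime_pow_of_unique_prime_dvd Nat.card_pos.ne' fun {s} hs hd => ?_
  by_contra hsp
  haveI := Fact.mk hs
  have hs2 : s ≠ 2 := fun h => hodd (h ▸ hd)
  obtain ⟨R⟩ : Nonempty (Sylow s M) := inferInstance
  obtain ⟨t, ht⟩ := exists_prime_orderOf_dvd_card' 2
    (dvd_card_of_sup Nat.prime_two c.two_dvd (Sylow.normalizer_sup_eq_top R) hodd)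
  refine c.no_odd hs hs2 hsp (R.2.map M.subtype) (fun h => ?_) (t := (t : G)) ?_ ?_ t.2
  · rw [map_eq_bot_iff_of_injective _ M.subtype_injective] at h
    exact R.ne_bot_of_dvd_card hd h
  · rw [← pow_two, ← ht, ← orderOf_coe, pow_orderOf_eq_one]
  · intro h
    rw [show t = 1 from Subtype.ext h, orderOf_one] at ht
    omega

theorem Ctx.fixed_eq_one (P : Sylow p G) {z : G} (hz : z ∈ (P : Subgroup G))
    (hfix : ∀ g ∈ normalizer ((P : Subgroup G) : Set G), g * z = z * g) : z = 1 := by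
  obtain ⟨r, hr, hr2, hrp, hrG⟩ := c.third
  haveI := c.ab P
  letI : CommGroup (P : Subgroup G) := { (inferInstance : Group (P : Subgroup G)) with
    mul_comm := fun a b => (IsMulCommutative.is_comm (M := (P : Subgroup G))).comm a b }
  have key : ∀ (k : ℕ) (g₀ : G), g₀⁻¹ * z ^ k * g₀ ∈ (P : Subgroup G) → g₀⁻¹ * z ^ k * g₀ = z ^ k := by
    intro k g₀ h
    obtain ⟨n, hn, e⟩ := P.conj_eq_normalizer_conj_of_mem (z ^ k) g₀ (pow_mem hz k) h
    have hc : Commute n (z ^ k) := Commute.pow_right (hfix n hn) k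
    rw [e, mul_assoc, ← hc.eq, inv_mul_cancel_left]
  let f := MonoidHom.transfer (MonoidHom.id (P : Subgroup G))
  have hker : f.ker = ⊤ := by
    by_contra hne
    obtain ⟨k, hk⟩ := IsPGroup.iff_card.1 (c.normal_proper_pgroup hne)
    obtain ⟨j, hj⟩ := IsPGroup.iff_card.1 (P.2.to_subgroup f.range)
    rw [← card_mul_index f.ker, index_ker, hk, hj, ← pow_add] at hrG
    exact hrp ((Nat.prime_dvd_prime_iff_eq hr hp.out).1 (hr.dvd_of_dvd_pow hrG))
  have h1 := MonoidHom.transfer_eq_pow (MonoidHom.id (P : Subgroup G)) z key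
  rw [MonoidHom.mem_ker.1 (hker ▸ mem_top z : z ∈ f.ker)] at h1
  have h2 : z ^ (P : Subgroup G).index = 1 := (congrArg Subtype.val h1).symm
  obtain ⟨n, hn⟩ := pPow_of_mem P.2 hz
  exact eq_one_of_coprime_pows hn h2 (Nat.Coprime.pow_left _ ((Nat.Prime.coprime_iff_not_dvd hp.out).2 P.not_dvd_index))

theorem Ctx.simple (M : Subgroup G) [M.Normal] : M = ⊥ ∨ M = ⊤ := by
  obtain ⟨r, hr, hr2, hrp, hrG⟩ := c.third
  haveI := Fact.mk Nat.prime_two
  by_contra! h
  obtain ⟨P, hP⟩ := (c.normal_proper_pgroup h.2).exists_le_sylow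
  haveI := c.ab P
  have hPC : (P : Subgroup G) ≤ centralizer (M : Set G) := fun y hy => mem_centralizer_iff.2 fun m hm =>
    congrArg Subtype.val ((IsMulCommutative.is_comm (M := (P : Subgroup G))).comm ⟨m, hP hm⟩ ⟨y, hy⟩)
  by_cases hC : centralizer (M : Set G) = ⊤
  · obtain ⟨z, hz, hz1⟩ := (bot_or_exists_ne_one M).resolve_left h.1
    exact hz1 (c.fixed_eq_one P (hP hz) fun g _ => (mem_centralizer_iff.1 (hC ▸ mem_top g) z hz).symm)
  have hPn : centralizer (M : Set G) = (P : Subgroup G) := P.3 (c.normal_proper_pgroup hC) hPC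
  haveI : (P : Subgroup G).Normal := hPn ▸ inferInstance
  obtain ⟨Q⟩ : Nonempty (Sylow 2 G) := inferInstance
  obtain ⟨x, t, n, hn, hx, ht, hne⟩ := c.moving Q
  have hxP : x ∈ (P : Subgroup G) := mem_sylow_of_normalize P hn (by rw [normalizer_eq_top (H := (P : Subgroup G))]; trivial)
  have hxt : x * t * x⁻¹ * t⁻¹ ∈ (P : Subgroup G) := by
    have := mul_mem hxP ((inferInstance : (P : Subgroup G).Normal).conj_mem _ (inv_mem hxP) t)
    rwa [show x * (t * x⁻¹ * t⁻¹) = x * t * x⁻¹ * t⁻¹ by group] at this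
  obtain ⟨i, hi⟩ := pPow_of_mem P.2 hxt
  obtain ⟨j, hj⟩ := pPow_of_mem Q.2 (mul_mem ((mem_normalizer_iff.1 hx t).1 ht) (inv_mem ht))
  exact hne (mul_inv_eq_one.1 (eq_one_of_coprime_pows hi hj
    (((Nat.coprime_primes hp.out Nat.prime_two).2 c.p2).pow _ _)))

theorem Ctx.normalizer_ne_top {U : Subgroup G} (h1 : U ≠ ⊥) {ℓ : ℕ} [Fact ℓ.Prime] (hU : IsPGroup ℓ U) :
    normalizer (U : Set G) ≠ ⊤ := fun h => by
  haveI : U.Normal := normalizer_eq_top_iff.1 h
  obtain ⟨r, hr, hr2, hrp, hrG⟩ := c.third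
  rcases c.simple U with h2 | h2
  · exact h1 h2
  · obtain ⟨k, hk⟩ := IsPGroup.iff_card.1 hU
    rw [h2, card_top] at hk
    have e1 := (Nat.prime_dvd_prime_iff_eq hr Fact.out).1 (hr.dvd_of_dvd_pow (hk ▸ hrG))
    have e2 := (Nat.prime_dvd_prime_iff_eq hp.out Fact.out).1 (hp.out.dvd_of_dvd_pow (hk ▸ c.p_dvd))
    exact hrp (e1.trans e2.symm)

theorem Ctx.centralizer_ne_top {z : G} (hz : z ≠ 1) : centralizer ({z} : Set G) ≠ ⊤ := fun h => by
  obtain ⟨r, hr, hr2, hrp, hrG⟩ := c.third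
  haveI := Fact.mk Nat.prime_two
  rcases c.simple (center G) with h2 | h2
  · refine hz (mem_bot.1 (h2 ▸ mem_center_iff.2 fun g => ?_))
    exact mem_centralizer_singleton_iff.1 (h ▸ mem_top g)
  · obtain ⟨Q⟩ : Nonempty (Sylow 2 G) := inferInstance
    obtain ⟨x, t, n, -, -, -, hne⟩ := c.moving Q
    exact hne (mul_inv_eq_iff_eq_mul.2 (mem_center_iff.1 (h2 ▸ mem_top t : t ∈ center G) x))

/-- The two shapes of an even proper subgroup. -/
theorem Ctx.local_cases {H : Subgroup G} (hH : H ≠ ⊤) (h2 : 2 ∣ Nat.card H) :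
    (∃ Q : Sylow 2 G, (Q : Subgroup G) ≤ H ∧ H ≤ normalizer ((Q : Subgroup G) : Set G)) ∨
    (∃ K : Subgroup G, K ≤ H ∧ H ≤ normalizer (K : Set G) ∧ IsPGroup p K ∧ (∀ a ∈ K, ∀ b ∈ K, a * b = b * a) ∧
      ∀ y ∈ H, (∃ n, y ^ p ^ n = 1) → y ∈ K) := by
  haveI := Fact.mk Nat.prime_two
  have hab : ∀ P : Sylow p H, IsMulCommutative (P : Subgroup H) := fun P => by
    obtain ⟨P', hP'⟩ := (P.2.map H.subtype).exists_le_sylow
    haveI := c.ab P'
    refine ⟨⟨fun a b => Subtype.ext (Subtype.ext ?_)⟩⟩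
    have := congrArg Subtype.val ((IsMulCommutative.is_comm (M := (P' : Subgroup G))).comm
      ⟨((a : H) : G), hP' (mem_map_of_mem _ a.2)⟩ ⟨((b : H) : G), hP' (mem_map_of_mem _ b.2)⟩)
    exact this
  have hconv : ∀ K : Subgroup H, K.Normal → K.map H.subtype ≤ H ∧ H ≤ normalizer ((K.map H.subtype : Subgroup G) : Set G) := by
    intro K hK
    refine ⟨map_subtype_le K, fun g hg => ?_⟩
    rw [mem_normalizer_iff]
    intro s
    constructor
    · rintro ⟨k, hk, rfl⟩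
      exact ⟨_, hK.conj_mem k hk ⟨g, hg⟩, rfl⟩
    · rintro ⟨k, hk, hks⟩
      refine ⟨_, hK.conj_mem k hk ⟨g, hg⟩⁻¹, ?_⟩
      simp only [coe_subtype] at hks
      simp [hks, mul_assoc]
  rcases two_cases c.p2 (c.sub H hH h2) hab (p + 1) (fun U _ hlt y hy ⟨n, hn⟩ =>
      centralize_small hn hy (Nat.lt_succ_iff.1 hlt)) with ⟨Q, hQn, hQ2, hQc⟩ | ⟨K, hKn, hK, hKc, hKy⟩
  · left
    obtain ⟨S, hS⟩ := (hQ2.map H.subtype).exists_le_sylow
    have he : Q.map H.subtype = (S : Subgroup G) := eq_of_le_of_card_ge hS (by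
      rw [c.two S, card_map_of_injective H.subtype_injective]; exact hQc)
    exact ⟨S, he ▸ (hconv Q hQn).1, he ▸ (hconv Q hQn).2⟩
  · right
    refine ⟨K.map H.subtype, (hconv K hKn).1, (hconv K hKn).2, hK.map _, ?_, fun y hy ⟨n, hn⟩ => ?_⟩
    · rintro _ ⟨a, ha, rfl⟩ _ ⟨b, hb, rfl⟩
      haveI := hKc
      exact congrArg (fun e : K => ((e : H) : G)) ((IsMulCommutative.is_comm (M := K)).comm ⟨a, ha⟩ ⟨b, hb⟩)
    · exact ⟨⟨y, hy⟩, hKy _ ⟨n, Subtype.ext (by simpa using hn)⟩, rfl⟩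

theorem Ctx.sylow_unique {H : Subgroup G} (Q Q' : Sylow 2 G) (hQ : (Q : Subgroup G) ≤ H)
    (hH : H ≤ normalizer ((Q' : Subgroup G) : Set G)) : (Q : Subgroup G) = Q' := by
  haveI := Fact.mk Nat.prime_two
  exact sylow_eq_of_le Q' Q (hQ.trans hH)

/-- A `p`-element centralizing a Sylow 2-subgroup is trivial. -/
theorem Ctx.cent_sylow (Q : Sylow 2 G) {y : G} {n : ℕ} (hy : y ^ p ^ n = 1)
    (hyQ : y ∈ centralizer ((Q : Subgroup G) : Set G))
    (heven : ∀ P : Sylow p G, ∃ w : G, w * w = 1 ∧ w ≠ 1 ∧ w ∈ normalizer ((P : Subgroup G) : Set G))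
    (hfix : ∀ P : Sylow p G, ∀ z ∈ (P : Subgroup G),
      (∀ w : G, w * w = 1 → w ∈ normalizer ((P : Subgroup G) : Set G) → w * z * w = z) → z = 1) : y = 1 := by
  haveI := Fact.mk Nat.prime_two
  by_contra hy1
  obtain ⟨x, ⟨k, hk⟩, hx, htr⟩ := c.transitive Q
  set N := normalizer ((Q : Subgroup G) : Set G) with hN
  -- a commuting conjugate of `y`
  obtain ⟨T, hT⟩ := ((isPGroup_zpowers hk).comap_subtype (K := N)).exists_le_sylow
  have hyN : y ∈ N := centralizer_le_normalizer _ hyQ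
  obtain ⟨T', hT'⟩ := ((isPGroup_zpowers hy).comap_subtype (K := N)).exists_le_sylow
  obtain ⟨g, hg⟩ := MulAction.exists_smul_eq N T' T
  obtain ⟨d, hd⟩ : ∃ d, d = (g : G) * y * (g : G)⁻¹ := ⟨_, rfl⟩
  have hd1 : d ≠ 1 := fun h => hy1 (conj_eq_one_iff.1 (hd ▸ h))
  have hdQ : d ∈ centralizer ((Q : Subgroup G) : Set G) := by
    rw [hd, mem_centralizer_iff]
    intro s hs
    have hs' : (g : G)⁻¹ * s * g ∈ (Q : Subgroup G) :=
      (mem_normalizer_iff.1 g.2 _).2 (by simpa [mul_assoc] using (show s ∈ (Q : Subgroup G) from hs))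
    calc s * ((g : G) * y * (g : G)⁻¹) = g * (((g : G)⁻¹ * s * g) * y) * (g : G)⁻¹ := by group
      _ = g * (y * ((g : G)⁻¹ * s * g)) * (g : G)⁻¹ := by rw [mem_centralizer_iff.1 hyQ _ hs']
      _ = g * y * (g : G)⁻¹ * s := by group
  have hdN : d ∈ N := centralizer_le_normalizer _ hdQ
  have hdT : (⟨d, hdN⟩ : N) ∈ (T : Subgroup N) := by
    rw [← hg]
    refine Transfer.mem_smul_sylow.2 (hT' ?_)
    show ((g⁻¹ * ⟨d, hdN⟩ * g : N) : G) ∈ zpowers y
    simp [hd, mul_assoc]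
  obtain ⟨P, hP⟩ := (T.2.map N.subtype).exists_le_sylow
  have hxP : x ∈ (P : Subgroup G) := hP ⟨⟨x, hx⟩, hT (mem_zpowers x : x ∈ zpowers x), rfl⟩
  have hdP : d ∈ (P : Subgroup G) := hP ⟨⟨d, hdN⟩, hdT, rfl⟩
  haveI := c.ab P
  have hPab : ∀ a ∈ (P : Subgroup G), ∀ b ∈ (P : Subgroup G), a * b = b * a := fun a ha b hb =>
    congrArg Subtype.val ((IsMulCommutative.is_comm (M := (P : Subgroup G))).comm ⟨a, ha⟩ ⟨b, hb⟩)
  -- centralizers of such elements normalize `Q`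
  have hQnorm : ∀ e : G, e ∈ (P : Subgroup G) → e ≠ 1 → e ∈ centralizer ((Q : Subgroup G) : Set G) →
      centralizer ({e} : Set G) ≤ N := by
    intro e he he1 heQ
    set H := centralizer ({e} : Set G)
    have hQH : (Q : Subgroup G) ≤ H := fun s hs => mem_centralizer_singleton_iff.2 (mem_centralizer_iff.1 heQ s hs)
    have hxH : x ∈ H := mem_centralizer_singleton_iff.2 (hPab x hxP e he)
    have h2 : 2 ∣ Nat.card H :=
      (even_iff_two_dvd.1 ((hp.out.odd_of_ne_two c.p2).add_one)).trans (c.two Q ▸ card_dvd_of_le hQH)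
    rcases c.local_cases (c.centralizer_ne_top he1) h2 with ⟨Q', -, hHQ⟩ | ⟨K, -, hHK, hK, -, hKy⟩
    · rw [hN, c.sylow_unique Q Q' hQH hHQ]; exact hHQ
    · exfalso
      obtain ⟨x', t, n', hn', hx', ht, hne⟩ := c.moving Q
      have ht1 : t ≠ 1 := fun h => hne (by rw [h]; group)
      have hxK := hKy x hxH ⟨k, hk⟩
      have h1 : x * t * x⁻¹ * t⁻¹ ∈ K := by
        have := mul_mem hxK ((mem_normalizer_iff.1 (hHK (hQH ht)) _).1 (inv_mem hxK))
        rwa [show x * (t * x⁻¹ * t⁻¹) = x * t * x⁻¹ * t⁻¹ by group] at this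
      obtain ⟨i, hi⟩ := pPow_of_mem hK h1
      obtain ⟨j, hj⟩ := pPow_of_mem Q.2 (mul_mem ((mem_normalizer_iff.1 hx t).1 ht) (inv_mem ht))
      have hfx : x * t * x⁻¹ = t := mul_inv_eq_one.1 (eq_one_of_coprime_pows hi hj
        (((Nat.coprime_primes hp.out Nat.prime_two).2 c.p2).pow _ _))
      -- the transitive element fixes a non-identity element
      have hx't : x' * t * x'⁻¹ ∈ (Q : Subgroup G) := (mem_normalizer_iff.1 hx' t).1 ht
      obtain ⟨l, hl⟩ := htr t ht ht1 (x' * t * x'⁻¹) hx't (fun h => ht1 (conj_eq_one_iff.1 h))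
      refine hne ?_
      rw [← hl]
      have hcm : Commute (x ^ l) t := Commute.zpow_left (mul_inv_eq_iff_eq_mul.1 hfx) l
      rw [hcm.eq, mul_inv_cancel_right]
  have hPN : (P : Subgroup G) ≤ N := fun a ha =>
    hQnorm d hdP hd1 hdQ (mem_centralizer_singleton_iff.2 (hPab a ha d hdP))
  set D := (P : Subgroup G) ⊓ centralizer ((Q : Subgroup G) : Set G) with hD
  obtain ⟨t₀, ht₀, ht₀1⟩ : ∃ t ∈ (Q : Subgroup G), t ≠ 1 := by
    obtain ⟨x', t, n', hn', hx', ht, hne⟩ := c.moving Q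
    exact ⟨t, ht, fun h => hne (by rw [h]; group)⟩
  have hrep : ∀ a ∈ (P : Subgroup G), ∃ i : ℤ, (x ^ i)⁻¹ * a ∈ D := by
    intro a ha
    obtain ⟨i, hi⟩ := htr t₀ ht₀ ht₀1 (a * t₀ * a⁻¹) ((mem_normalizer_iff.1 (hPN ha) t₀).1 ht₀)
      (fun h => ht₀1 (conj_eq_one_iff.1 h))
    have hmP : (x ^ i)⁻¹ * a ∈ (P : Subgroup G) := mul_mem (inv_mem (zpow_mem hxP i)) ha
    obtain ⟨m, hm⟩ := pPow_of_mem P.2 hmP
    refine ⟨i, hmP, c.no_move_fixed hm Q (hPN hmP) ht₀ ht₀1 ?_⟩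
    calc (x ^ i)⁻¹ * a * t₀ * ((x ^ i)⁻¹ * a)⁻¹ = (x ^ i)⁻¹ * (a * t₀ * a⁻¹) * x ^ i := by group
      _ = t₀ := by rw [← hi]; group
  have hxp : x ^ p ∈ D := by
    refine ⟨pow_mem hxP p, c.no_move_fixed (n := k) (by rw [← pow_mul, mul_comm, pow_mul, hk, one_pow]) Q (pow_mem hx p)
      ht₀ ht₀1 ?_⟩
    by_contra hne
    have hm := move (n := k) (by rw [← pow_mul, mul_comm, pow_mul, hk, one_pow]) (pow_mem hx p) ht₀ hne
    obtain ⟨i, hi⟩ := hm.2 (c.two Q) (x * t₀ * x⁻¹) ((mem_normalizer_iff.1 hx t₀).1 ht₀) (fun h => ht₀1 (conj_eq_one_iff.1 h))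
    have hz : (x ^ p) ^ i = x ^ ((p : ℤ) * i) := by rw [zpow_mul, zpow_natCast]
    rw [hz] at hi
    -- then `x ^ (p i - 1)` fixes `t₀`
    have hfx : x ^ ((p : ℤ) * i - 1) * t₀ * (x ^ ((p : ℤ) * i - 1))⁻¹ = t₀ := by
      calc _ = x⁻¹ * (x ^ ((p : ℤ) * i) * t₀ * (x ^ ((p : ℤ) * i))⁻¹) * x := by group
        _ = t₀ := by rw [hi]; group
    have hcop : IsCoprime ((p : ℤ) * i - 1) ((p ^ k : ℕ) : ℤ) := by
      push_cast
      exact IsCoprime.pow_right (⟨-1, i, by ring⟩ : IsCoprime ((p : ℤ) * i - 1) (p : ℤ))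
    obtain ⟨u, v, huv⟩ := hcop
    have hxk : x ^ ((p ^ k : ℕ) : ℤ) = 1 := by rw [zpow_natCast, hk]
    have hcm : Commute (x ^ ((p : ℤ) * i - 1)) t₀ := mul_inv_eq_iff_eq_mul.1 hfx
    have hxt : Commute x t₀ := by
      have h := hcm.zpow_left u
      rw [← zpow_mul] at h
      have e : x ^ (((p : ℤ) * i - 1) * u) = x := by
        rw [show ((p : ℤ) * i - 1) * u = 1 - ((p ^ k : ℕ) : ℤ) * v by linear_combination huv,
          zpow_sub, zpow_one, zpow_mul, hxk, one_zpow, inv_one, mul_one]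
      rwa [e] at h
    exact hne (mul_inv_eq_iff_eq_mul.2 (hxt.pow_left p).eq)
  have hidx : D.relIndex (P : Subgroup G) ≤ p := by
    rw [relIndex]
    set D' := D.subgroupOf (P : Subgroup G)
    refine le_trans (Nat.card_le_card_of_surjective
      (fun i : Fin p => (QuotientGroup.mk ⟨x ^ (i : ℕ), pow_mem hxP _⟩ : (P : Subgroup G) ⧸ D')) ?_) (Nat.card_fin p).le
    intro b
    induction b using QuotientGroup.induction_on with | _ a =>
    obtain ⟨i, hi⟩ := hrep a a.2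
    have hp0 : (p : ℤ) ≠ 0 := by exact_mod_cast hp.out.ne_zero
    refine ⟨⟨(i % (p : ℤ)).toNat, by
      have h1 := Int.emod_lt_of_pos i (show (0 : ℤ) < p by exact_mod_cast hp.out.pos)
      omega⟩, QuotientGroup.eq.2 ?_⟩
    rw [mem_subgroupOf]
    show (x ^ (i % (p : ℤ)).toNat)⁻¹ * (a : G) ∈ D
    have e : x ^ (i % (p : ℤ)).toNat = x ^ i * ((x ^ p) ^ (i / (p : ℤ)))⁻¹ := by
      rw [← zpow_natCast, Int.toNat_of_nonneg (Int.emod_nonneg i hp0), ← zpow_natCast x p, ← zpow_mul, ← zpow_neg, ← zpow_add]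
      congr 1
      have := Int.emod_add_mul_ediv i (p : ℤ)
      linarith
    rw [e, mul_inv_rev, inv_inv, mul_assoc]
    exact mul_mem (zpow_mem hxp _) hi
  have hinter : ∀ w : G, w * w = 1 → w ≠ 1 → w ∈ normalizer ((P : Subgroup G) : Set G) →
      ∀ e ∈ D, w * e * w ∈ D → e = 1 := by
    intro w hw hw1 hwP e he hwe
    by_contra he1
    have hwi := inv_eq_of_mul_eq_one_right hw
    have hle := hQnorm (w * e * w) hwe.1 (fun h => he1 ((conj_eq_one_iff (a := w)).1 (by rw [hwi]; exact h))) hwe.2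
    let Q' : Sylow 2 G := w • Q
    have hQ'le : (Q' : Subgroup G) ≤ centralizer ({w * e * w} : Set G) := by
      intro s hs
      have hs' := Transfer.mem_smul_sylow.1 hs
      rw [hwi] at hs'
      rw [mem_centralizer_singleton_iff]
      have := mem_centralizer_iff.1 he.2 _ hs'
      calc s * (w * e * w) = w * ((w * s * w) * e) * w := by
            simp only [mul_assoc]; rw [← mul_assoc w w, hw, one_mul]
        _ = w * (e * (w * s * w)) * w := by rw [this]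
        _ = w * e * w * s := by simp only [mul_assoc, hw, mul_one]
    have heq : (Q' : Subgroup G) = Q := sylow_eq_of_le Q Q' (hQ'le.trans hle)
    have hwN : w ∈ N := by
      rw [hN]
      exact Sylow.smul_eq_iff_mem_normalizer.1 (Sylow.ext heq)
    have hwQ : w ∈ (Q : Subgroup G) := mem_sylow_of_normalize Q (n := 1) (by rw [pow_one, pow_two, hw]) hwN
    have h1 : x * w * x⁻¹ * w⁻¹ ∈ (P : Subgroup G) := by
      have := mul_mem hxP ((mem_normalizer_iff.1 hwP _).1 (inv_mem hxP))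
      rwa [show x * (w * x⁻¹ * w⁻¹) = x * w * x⁻¹ * w⁻¹ by group] at this
    obtain ⟨i, hi⟩ := pPow_of_mem P.2 h1
    obtain ⟨j, hj⟩ := pPow_of_mem Q.2 (mul_mem ((mem_normalizer_iff.1 hx w).1 hwQ) (inv_mem hwQ))
    have hfx : x * w * x⁻¹ = w := mul_inv_eq_one.1 (eq_one_of_coprime_pows hi hj
      (((Nat.coprime_primes hp.out Nat.prime_two).2 c.p2).pow _ _))
    obtain ⟨x', t, n', hn', hx', ht, hne⟩ := c.moving Q
    have ht1 : t ≠ 1 := fun h => hne (by rw [h]; group)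
    obtain ⟨l, hl⟩ := htr w hwQ hw1 t ht ht1
    obtain ⟨l', hl'⟩ := htr w hwQ hw1 (x' * t * x'⁻¹) ((mem_normalizer_iff.1 hx' t).1 ht) (fun h => ht1 (conj_eq_one_iff.1 h))
    have hcm : Commute x w := mul_inv_eq_iff_eq_mul.1 hfx
    rw [(hcm.zpow_left l).eq, mul_inv_cancel_right] at hl
    rw [(hcm.zpow_left l').eq, mul_inv_cancel_right] at hl'
    exact hne (hl'.symm.trans hl)
  -- order `p` for subgroups meeting `D` trivially
  have hsmall : ∀ C : Subgroup G, C ≤ (P : Subgroup G) → C ⊓ D = ⊥ → Nat.card C ≤ p := fun C hC h => by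
    rw [← relIndex_bot_left C, ← h, inf_comm, inf_relIndex_right]
    exact (relIndex_le_of_le_right hC (index_ne_zero_of_finite : (D.subgroupOf (P : Subgroup G)).index ≠ 0)).trans hidx
  obtain ⟨w, hw, hw1, hwP⟩ := heven P
  have hdD : d ∈ D := ⟨hdP, hdQ⟩
  have conjP : ∀ v : G, v * v = 1 → v ∈ normalizer ((P : Subgroup G) : Set G) → ∀ a ∈ (P : Subgroup G),
      v * a * v ∈ (P : Subgroup G) := fun v hv hvP a ha => by
    have := (mem_normalizer_iff.1 hvP a).1 ha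
    rwa [inv_eq_of_mul_eq_one_right hv] at this
  have hdw := conjP w hw hwP d hdP
  have hww : ∀ a : G, w * (w * a * w) * w = a := fun a => by
    simp only [mul_assoc, hw, mul_one]; rw [← mul_assoc, hw, one_mul]
  have hsplit : ∀ a b : G, w * (a * b) * w = (w * a * w) * (w * b * w) := fun a b => by
    simp only [mul_assoc]; rw [← mul_assoc w w, hw, one_mul]
  have hwinv : ∀ a : G, w * a⁻¹ * w = (w * a * w)⁻¹ := fun a => by
    rw [mul_inv_rev, mul_inv_rev, inv_eq_of_mul_eq_one_right hw, mul_assoc]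
  set cc := d * (w * d * w) with hcc
  set ee := d * (w * d * w)⁻¹ with hee
  have hccP : cc ∈ (P : Subgroup G) := mul_mem hdP hdw
  have heeP : ee ∈ (P : Subgroup G) := mul_mem hdP (inv_mem hdw)
  have hccw : w * cc * w = cc := by rw [hcc, hsplit, hww]; exact hPab _ hdw _ hdP
  have heew : w * ee * w = ee⁻¹ := by
    rw [hee, hsplit, hwinv, hww, mul_inv_rev, inv_inv]
  have hcc1 : cc ≠ 1 := fun h => hd1 (hinter w hw hw1 hwP d hdD (by
    rw [hcc] at h
    rw [← inv_eq_of_mul_eq_one_right h]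
    exact inv_mem hdD))
  let C : Subgroup G :=
    { carrier := {a | a ∈ (P : Subgroup G) ∧ w * a * w = a}
      one_mem' := ⟨one_mem _, by rw [mul_one, hw]⟩
      mul_mem' := fun {a b} ha hb => ⟨mul_mem ha.1 hb.1, by rw [hsplit, ha.2, hb.2]⟩
      inv_mem' := fun {a} ha => ⟨inv_mem ha.1, by rw [hwinv, ha.2]⟩ }
  let A : Subgroup G :=
    { carrier := {a | a ∈ (P : Subgroup G) ∧ w * a * w = a⁻¹}
      one_mem' := ⟨one_mem _, by rw [mul_one, hw, inv_one]⟩
      mul_mem' := fun {a b} ha hb => ⟨mul_mem ha.1 hb.1, by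
        rw [hsplit, ha.2, hb.2, ← mul_inv_rev, hPab b hb.1 a ha.1]⟩
      inv_mem' := fun {a} ha => ⟨inv_mem ha.1, by rw [hwinv, ha.2]⟩ }
  have hCD : C ⊓ D = ⊥ := (eq_bot_iff_forall _).2 fun a ha =>
    hinter w hw hw1 hwP a ha.2 (by rw [ha.1.2]; exact ha.2)
  have hAD : A ⊓ D = ⊥ := (eq_bot_iff_forall _).2 fun a ha =>
    hinter w hw hw1 hwP a ha.2 (by rw [ha.1.2]; exact inv_mem ha.2)
  have hcyc : ∀ (B : Subgroup G), B ≤ (P : Subgroup G) → B ⊓ D = ⊥ → ∀ g ∈ B, g ≠ 1 → zpowers g = B := by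
    intro B hBP hB g hg hg1
    refine eq_of_le_of_card_ge (zpowers_le.2 hg) ((hsmall B hBP hB).trans ?_)
    obtain ⟨m, hm⟩ := pPow_of_mem P.2 (hBP hg)
    rw [Nat.card_zpowers]
    obtain ⟨j, -, hj⟩ := (Nat.dvd_prime_pow hp.out).1 (orderOf_dvd_of_pow_eq_one hm)
    rw [hj]
    refine Nat.le_self_pow (fun h0 => hg1 ?_) p
    rw [← orderOf_eq_one_iff, hj, h0, pow_zero]
  have inv2 : ∀ {v a : G} {B : Subgroup G}, v * v = 1 → B ≤ (P : Subgroup G) → B ⊓ D = ⊥ → a ∈ B → v * a * v ∈ B →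
      v * a * v = a ∨ v * a * v = a⁻¹ := by
    intro v a B hv hBP hB ha hva
    by_cases ha1 : a = 1
    · left; rw [ha1, mul_one, hv]
    rw [← hcyc B hBP hB a ha ha1] at hva
    obtain ⟨i, hi⟩ := hva
    simp only at hi
    have hvi := inv_eq_of_mul_eq_one_right hv
    have h2 : a ^ (i * i) = a := by
      calc a ^ (i * i) = (a ^ i) ^ i := zpow_mul a i i
        _ = (v * a * v⁻¹) ^ i := by rw [hi, hvi]
        _ = v * a ^ i * v := by rw [conj_zpow, hvi]
        _ = a := by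
          rw [hi]
          simp only [mul_assoc, hv, mul_one]
          rw [← mul_assoc, hv, one_mul]
    have h3 : a ^ ((i - 1) * (i + 1)) = 1 := by
      rw [show (i - 1) * (i + 1) = i * i - 1 by ring, zpow_sub, h2, zpow_one, mul_inv_cancel]
    rw [← orderOf_dvd_iff_zpow_eq_one] at h3
    have ho : orderOf a = p := by
      obtain ⟨m, hm⟩ := pPow_of_mem P.2 (hBP ha)
      obtain ⟨j, -, hj⟩ := (Nat.dvd_prime_pow hp.out).1 (orderOf_dvd_of_pow_eq_one hm)
      have hle : orderOf a ≤ p := by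
        have := hsmall _ hBP hB
        rw [← hcyc B hBP hB a ha ha1, Nat.card_zpowers] at this
        exact this
      have hlt : j < 2 := by
        by_contra! hj2
        rw [hj] at hle
        have := (Nat.pow_le_pow_right hp.out.pos hj2).trans hle
        nlinarith [hp.out.two_le]
      interval_cases j
      · exact absurd (orderOf_eq_one_iff.1 (by simpa using hj)) ha1
      · simpa using hj
    rw [ho] at h3
    rcases (Nat.prime_iff_prime_int.1 hp.out).dvd_mul.1 h3 with h | h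
    · left
      rw [← hi, show i = 1 + (i - 1) by ring, zpow_add, zpow_one]
      rw [← ho, orderOf_dvd_iff_zpow_eq_one] at h
      rw [h, mul_one]
    · right
      rw [← hi, show i = -1 + (i + 1) by ring, zpow_add, zpow_neg_one]
      rw [← ho, orderOf_dvd_iff_zpow_eq_one] at h
      rw [h, mul_one]
  obtain ⟨v, hv, hvP, hvcc⟩ : ∃ v : G, v * v = 1 ∧ v ∈ normalizer ((P : Subgroup G) : Set G) ∧ v * cc * v ≠ cc := by
    by_contra! hh
    exact hcc1 (hfix P cc hccP fun v hv hvP => hh v hv hvP)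
  -- commuting involutions in the normalizer
  obtain ⟨v', hv', hv'P, hv'cc, hv'w⟩ : ∃ v : G, v * v = 1 ∧ v ∈ normalizer ((P : Subgroup G) : Set G) ∧
      v * cc * v ≠ cc ∧ v * w = w * v := by
    set NP := normalizer ((P : Subgroup G) : Set G) with hNP
    obtain ⟨W₁, hW₁⟩ := ((isPGroup_zpowers (show v ^ 2 ^ 1 = 1 by rw [pow_one, pow_two, hv])).comap_subtype (K := NP)).exists_le_sylow
    obtain ⟨W₂, hW₂⟩ := ((isPGroup_zpowers (show w ^ 2 ^ 1 = 1 by rw [pow_one, pow_two, hw])).comap_subtype (K := NP)).exists_le_sylow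
    obtain ⟨g, hg⟩ := MulAction.exists_smul_eq NP W₁ W₂
    have hPne : (P : Subgroup G) ≠ ⊥ := fun h => hd1 (mem_bot.1 (h ▸ hdP))
    have h2 : 2 ∣ Nat.card NP := by
      rw [← orderOf_eq_prime (show w ^ 2 = 1 by rw [pow_two, hw]) hw1]
      exact orderOf_dvd_natCard _ hwP
    obtain ⟨T₁, hT₁⟩ := (P.2.comap_subtype (K := NP)).exists_le_sylow
    -- split `g` by the two Sylow subgroups
    have hsup : (T₁ : Subgroup NP) ⊔ (W₁ : Subgroup NP) = ⊤ := by
      refine eq_top_of_card_eq _ (Nat.dvd_antisymm (card_subgroup_dvd_card _) ?_)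
      refine Nat.dvd_iff_prime_pow_dvd_dvd _ _ |>.2 fun r e hr hd => ?_
      rcases Nat.eq_zero_or_pos e with rfl | he
      · simp
      rcases c.sub NP (c.normalizer_ne_top hPne P.2) h2 r hr ((dvd_pow_self r he.ne').trans hd) with rfl | rfl
      · exact (W₁.pow_dvd_card_of_pow_dvd_card hd).trans (card_dvd_of_le le_sup_right)
      · exact (T₁.pow_dvd_card_of_pow_dvd_card hd).trans (card_dvd_of_le le_sup_left)
    haveI hPn : ((P : Subgroup G).subgroupOf NP).Normal := normal_in_normalizer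
    have hT₁e : (T₁ : Subgroup NP) = (P : Subgroup G).subgroupOf NP := by
      refine le_antisymm (fun a ha => ?_) hT₁
      obtain ⟨n, hn⟩ := pPow_of_mem T₁.2 ha
      exact mem_sylow_of_normalize P (n := n) (by simpa using congrArg Subtype.val hn) a.2
    haveI : (T₁ : Subgroup NP).Normal := hT₁e ▸ hPn
    obtain ⟨a, ha, b, hb, hab⟩ := mem_sup_of_normal_left.1 (hsup ▸ mem_top g : g ∈ (T₁ : Subgroup NP) ⊔ (W₁ : Subgroup NP))
    have haP : (a : G) ∈ (P : Subgroup G) := by rw [hT₁e] at ha; exact ha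
    have hbv : b * ⟨v, hvP⟩ = ⟨v, hvP⟩ * b := Subtype.ext (by
      have := (c.two_group (W₁.2.map NP.subtype)).1 _ (mem_map_of_mem _ hb) _ (mem_map_of_mem _ (@hW₁ ⟨v, hvP⟩ (mem_zpowers v)))
      simpa using this)
    let v₁ : NP := a * ⟨v, hvP⟩ * a⁻¹
    have hv₁W : v₁ ∈ (W₂ : Subgroup NP) := by
      rw [← hg]
      refine Transfer.mem_smul_sylow.2 ?_
      rw [← hab, show (a * b)⁻¹ * (a * ⟨v, hvP⟩ * a⁻¹) * (a * b) = b⁻¹ * ⟨v, hvP⟩ * b by group,
        mul_assoc, ← hbv, inv_mul_cancel_left]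
      exact @hW₁ ⟨v, hvP⟩ (mem_zpowers v)
    refine ⟨(v₁ : G), ?_, v₁.2, ?_, ?_⟩
    · show (a : G) * v * (a : G)⁻¹ * ((a : G) * v * (a : G)⁻¹) = 1
      rw [show (a : G) * v * (a : G)⁻¹ * ((a : G) * v * (a : G)⁻¹) = (a : G) * (v * v) * (a : G)⁻¹ by group, hv,
        mul_one, mul_inv_cancel]
    · show (a : G) * v * (a : G)⁻¹ * cc * ((a : G) * v * (a : G)⁻¹) ≠ cc
      intro h
      apply hvcc
      have h1 : (a : G)⁻¹ * cc * (a : G) = cc := by rw [mul_assoc, ← hPab _ haP _ hccP, inv_mul_cancel_left]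
      calc v * cc * v = v * ((a : G)⁻¹ * cc * (a : G)) * v := by rw [h1]
        _ = (a : G)⁻¹ * ((a : G) * v * (a : G)⁻¹ * cc * ((a : G) * v * (a : G)⁻¹)) * (a : G) := by group
        _ = cc := by rw [h, h1]
    · have := (c.two_group (W₂.2.map NP.subtype)).1 _ (mem_map_of_mem _ hv₁W) _
        (mem_map_of_mem _ (@hW₂ ⟨w, hwP⟩ (mem_zpowers w)))
      simpa using this
  have hvw' : ∀ a : G, w * (v' * a * v') * w = v' * (w * a * w) * v' := fun a => by
    calc w * (v' * a * v') * w = (w * v') * a * (v' * w) := by simp only [mul_assoc]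
      _ = (v' * w) * a * (w * v') := by rw [hv'w]
      _ = v' * (w * a * w) * v' := by simp only [mul_assoc]
  have hv'C : v' * cc * v' ∈ C := ⟨conjP v' hv' hv'P cc hccP, by rw [hvw', hccw]⟩
  have hv'A : v' * ee * v' ∈ A := ⟨conjP v' hv' hv'P ee heeP, by
    rw [hvw', heew]; generalize ee = e₀; rw [mul_inv_rev, mul_inv_rev, inv_eq_of_mul_eq_one_right hv', mul_assoc]⟩
  have hcinv : v' * cc * v' = cc⁻¹ :=
    (inv2 (B := C) hv' (fun a ha => ha.1) hCD ⟨hccP, hccw⟩ hv'C).resolve_left hv'cc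
  have hsplit' : ∀ u : G, u * u = 1 → ∀ a b : G, u * (a * b) * u = (u * a * u) * (u * b * u) := fun u hu a b => by
    simp only [mul_assoc]; rw [← mul_assoc u u, hu, one_mul]
  have hcee : cc * ee = d * d := by
    rw [hcc, hee, hPab d hdP (w * d * w)⁻¹ (inv_mem hdw), mul_assoc, ← mul_assoc (w * d * w), mul_inv_cancel, one_mul]
  have hfin : ∀ u : G, u * u = 1 → u ≠ 1 → u ∈ normalizer ((P : Subgroup G) : Set G) → u * cc * u = cc⁻¹ →
      u * ee * u = ee⁻¹ → False := by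
    intro u hu hu1 huP h1 h2
    have h3 : u * (d * d) * u = (d * d)⁻¹ := by
      rw [← hcee, hsplit' u hu, h1, h2, ← mul_inv_rev, hPab ee heeP cc hccP]
    have hdd : d * d ≠ 1 := fun h => by
      obtain ⟨m, hm⟩ := pPow_of_mem P.2 hdP
      exact hd1 (eq_one_of_coprime_pows hm (by rw [pow_two]; exact h)
        (((Nat.coprime_primes hp.out Nat.prime_two).2 c.p2).pow_left _))
    exact hdd (hinter u hu hu1 huP _ (mul_mem hdD hdD) (by rw [h3]; exact inv_mem (mul_mem hdD hdD)))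
  have hv'1 : v' ≠ 1 := fun h => hv'cc (by rw [h, one_mul, mul_one])
  rcases inv2 (B := A) hv' (fun a ha => ha.1) hAD ⟨heeP, heew⟩ hv'A with he | he
  · refine hfin (v' * w) ?_ ?_ (mul_mem hv'P hwP) ?_ ?_
    · rw [show v' * w * (v' * w) = v' * (w * v') * w by simp only [mul_assoc], ← hv'w, ← mul_assoc v' v', hv', one_mul, hw]
    · intro h
      apply hv'cc
      have : v' = w := by rw [eq_inv_of_mul_eq_one_left h, inv_eq_of_mul_eq_one_right hw]
      rw [this]; exact hccw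
    · rw [show v' * w * cc * (v' * w) = v' * (w * cc * w) * v' by
        conv_lhs => rw [show v' * w * cc * (v' * w) = v' * w * cc * (w * v') by rw [hv'w]]
        simp only [mul_assoc], hccw, hcinv]
    · rw [show v' * w * ee * (v' * w) = v' * (w * ee * w) * v' by
        conv_lhs => rw [show v' * w * ee * (v' * w) = v' * w * ee * (w * v') by rw [hv'w]]
        simp only [mul_assoc], heew]
      have hvi := inv_eq_of_mul_eq_one_right hv'
      conv_rhs => rw [← he, mul_inv_rev, mul_inv_rev, hvi]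
      rw [mul_assoc]
  · exact hfin v' hv' hv'1 hv'P hcinv he

end Cfsg.Agent.Lib.Mixed
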